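/-
The automorphism group of an elementary abelian group of order 8.

* `exists_mulAut_equiv` : it is isomorphic to `GL(3, 2)`.
* `eq_top_of_no_index_two` : a subgroup of order divisible by 8 without subgroups of index two of a
  simple group of order 168 is the whole group.
-/
import Cfsg.Agent.Lib.AltE7.Section
import Cfsg.Agent.Lib.HSType.Basics
import Cfsg.Agent.Lib.SmallOrders.Order168

set_option autoImplicit false

namespace Cfsg.Agent.RuNorm

open Subgroup

theorem exists_mulAut_equiv {E : Type*} [CommGroup E] [Finite E] (hE : ∀ e : E, e ^ 2 = 1)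
    (hc : Nat.card E = 8) : Nonempty (MulAut E ≃* GL (Fin 3) (ZMod 2)) := by
  haveI : Fact (Nat.Prime 2) := ⟨Nat.prime_two⟩
  letI : Module (ZMod 2) (Additive E) :=
    AddCommGroup.zmodModule (n := 2) fun x => congrArg Additive.ofMul (hE x.toMul)
  haveI : Module.Finite (ZMod 2) (Additive E) := Module.Finite.of_finite
  haveI : Module.Free (ZMod 2) (Additive E) := Module.Free.of_divisionRing (ZMod 2) (Additive E)
  have hfr : Module.finrank (ZMod 2) (Additive E) = 3 := by
    have h := Nat.card_congr (Module.finBasis (ZMod 2) (Additive E)).equivFun.toEquiv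
    rw [Nat.card_congr Additive.toMul, hc, Nat.card_fun, Nat.card_zmod, Nat.card_fin,
      show (8 : ℕ) = 2 ^ 3 from rfl] at h
    exact (Nat.pow_right_injective le_rfl h).symm
  let b : Module.Basis (Fin 3) (ZMod 2) (Additive E) :=
    Module.finBasisOfFinrankEq (ZMod 2) (Additive E) hfr
  let e₁ : MulAut E ≃* (Additive E ≃ₗ[ZMod 2] Additive E) :=
    { toFun := fun f => { (MulEquiv.toAdditive f) with
        map_smul' := fun c x => ZMod.map_smul (MulEquiv.toAdditive f).toAddMonoidHom c x }
      invFun := fun g => MulEquiv.toAdditive.symm g.toAddEquiv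
      left_inv := fun f => rfl
      right_inv := fun g => rfl
      map_mul' := fun f g => rfl }
  exact ⟨e₁.trans ((LinearMap.GeneralLinearGroup.generalLinearEquiv (ZMod 2) (Additive E)).symm.trans
    (Units.mapEquiv (LinearMap.toMatrixAlgEquiv b).toMulEquiv))⟩

open scoped Classical in
theorem eq_top_of_no_index_two {X : Type*} [Group X] [Finite X] [IsSimpleGroup X]
    (h : Nat.card X = 168) (P : Subgroup X) (h8 : 8 ∣ Nat.card P)
    (h2 : ∀ H : Subgroup P, H.index ≠ 2) : P = ⊤ := by
  haveI : Fact (Nat.Prime 2) := ⟨Nat.prime_two⟩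
  haveI : Fact (Nat.Prime 3) := ⟨Nat.prime_three⟩
  haveI : Fact (Nat.Prime 7) := ⟨by norm_num⟩
  by_contra hne
  have hd : Nat.card P ∣ 168 := h ▸ P.card_subgroup_dvd_card
  have hle := SmallOrders.S168.card_le h hne
  obtain ⟨j, hj⟩ := h8
  have hj3 : j ≤ 3 := by omega
  have hjpos : 0 < j := by
    rcases Nat.eq_zero_or_pos j with h0 | h0
    · have := Nat.card_pos (α := P)
      omega
    · exact h0
  interval_cases j
  · -- order 8
    obtain ⟨K, hK⟩ := Sylow.exists_subgroup_card_pow_prime 2 (G := P) (n := 2) (by rw [hj]; norm_num)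
    refine h2 K ?_
    have h1 := K.card_mul_index
    rw [hK, hj] at h1
    omega
  · rw [hj] at hd; norm_num at hd
  -- order 24
  obtain ⟨Q⟩ := (inferInstance : Nonempty (Sylow 3 P))
  have hQc : Nat.card (Q : Subgroup P) = 3 := by
    rw [SmallOrders.card_sylow_subgroup (show Nat.card P = 3 ^ 1 * 8 by rw [hj]; rfl) (by norm_num) Q, pow_one]
  have hn : Nat.card (Sylow 3 P) = 4 := by
    have h1 : Nat.card (Sylow 3 P) ∣ (Q : Subgroup P).index := Q.card_dvd_index
    have hi : (Q : Subgroup P).index = 8 := by
      have := (Q : Subgroup P).card_mul_index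
      rw [hQc, hj] at this
      omega
    rw [hi] at h1
    have h3 := card_sylow_modEq_one 3 P
    have hle8 := Nat.le_of_dvd (by norm_num) h1
    have hne1 : Nat.card (Sylow 3 P) ≠ 1 := by
      intro h1'
      -- a normal Sylow subgroup lies in a normaliser of order 6
      haveI : Subsingleton (Sylow 3 P) := (Nat.card_eq_one_iff_unique.mp h1').1
      have hnorm : (Q : Subgroup P).Normal := Q.normal_of_subsingleton
      let QX : Subgroup X := (Q : Subgroup P).map P.subtype
      have hQX : Nat.card QX = 3 := (card_map_of_injective P.subtype_injective).trans hQc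
      obtain ⟨R, hR⟩ := (IsPGroup.of_card (p := 3) (n := 1) (G := QX) (by rw [hQX, pow_one])).exists_le_sylow
      have hRQ : QX = (R : Subgroup X) :=
        eq_of_le_of_card_ge hR (by rw [SmallOrders.S168.card_Q h R, hQX])
      have hPN : P ≤ normalizer ((R : Subgroup X) : Set X) := by
        intro p hp
        rw [← hRQ, mem_normalizer_iff]
        intro x
        constructor
        · rintro ⟨q, hq, rfl⟩
          exact ⟨⟨p, hp⟩ * q * ⟨p, hp⟩⁻¹, hnorm.conj_mem q hq _, rfl⟩
        · rintro ⟨q, hq, hqe⟩
          refine ⟨⟨p, hp⟩⁻¹ * q * ⟨p, hp⟩, ?_, ?_⟩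
          · exact hnorm.conj_mem' q hq ⟨p, hp⟩
          · show p⁻¹ * (q : X) * p = x
            rw [show (q : X) = p * x * p⁻¹ from hqe]; group
      have := card_le_of_le hPN
      rw [SmallOrders.S168.card_normalizer_three h R, hj] at this
      omega
    unfold Nat.ModEq at h3
    interval_cases hS : Nat.card (Sylow 3 P) <;> omega
  -- the action on the Sylow subgroups
  haveI : Fintype (Sylow 3 P) := Fintype.ofFinite _
  let f : P →* Equiv.Perm (Sylow 3 P) := MulAction.toPermHom P (Sylow 3 P)
  have hker : f.ker = ⊥ := by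
    rw [eq_bot_iff]
    intro k hk
    have hfix : ∀ R : Sylow 3 P, k • R = R := fun R => by
      have := congrArg (fun g : Equiv.Perm (Sylow 3 P) => g R) (MonoidHom.mem_ker.mp hk)
      exact this
    by_contra hk1
    -- every element of the kernel has order at most two, so it is central
    have hKle : f.ker ≤ normalizer (Q : Set P) := by
      intro x hx
      rw [← Sylow.smul_eq_iff_mem_normalizer]
      exact congrArg (fun g : Equiv.Perm (Sylow 3 P) => g Q) (MonoidHom.mem_ker.mp hx)
    have hNc : Nat.card (normalizer (Q : Set P)) = 6 := by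
      have h1 := Q.card_eq_index_normalizer
      have h4 := (normalizer (Q : Set P)).card_mul_index
      rw [← h1, hn, hj] at h4
      omega
    have hK3 : ¬ 3 ∣ Nat.card f.ker := by
      intro h3
      obtain ⟨x, hx⟩ := exists_prime_orderOf_dvd_card' 3 h3
      -- a subgroup of order three fixed by the conjugations lies in every Sylow subgroup
      have hxR : ∀ R : Sylow 3 P, (x : P) ∈ (R : Subgroup P) := by
        intro R
        have hxN : (x : P) ∈ normalizer (R : Set P) := by
          rw [← Sylow.smul_eq_iff_mem_normalizer]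
          exact congrArg (fun g : Equiv.Perm (Sylow 3 P) => g R) (MonoidHom.mem_ker.mp x.2)
        obtain ⟨Rn, hRn⟩ := (IsPGroup.of_card (p := 3) (n := 1) (G := zpowers (x : P))
          (by rw [Nat.card_zpowers, Subgroup.orderOf_coe, hx, pow_one])).exists_le_sylow
        have hsmall : IsPGroup 3 ↥(zpowers (x : P) ⊔ (R : Subgroup P)) :=
          (IsPGroup.of_card (p := 3) (n := 1)
            (by rw [Nat.card_zpowers, Subgroup.orderOf_coe, hx, pow_one])).to_sup_of_normal_right'
            R.2 (zpowers_le.mpr hxN)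
        exact (R.3 hsmall le_sup_right).le (mem_sup_left (mem_zpowers _))
      obtain ⟨R₁, R₂, hne'⟩ : ∃ R₁ R₂ : Sylow 3 P, R₁ ≠ R₂ := by
        by_contra hall
        push Not at hall
        have : Subsingleton (Sylow 3 P) := ⟨hall⟩
        rw [Nat.card_of_subsingleton Q] at hn
        omega
      apply hne'
      apply Sylow.ext
      have hc : ∀ R : Sylow 3 P, zpowers (x : P) = (R : Subgroup P) := fun R =>
        eq_of_le_of_card_ge (zpowers_le.mpr (hxR R)) (by
          rw [Nat.card_zpowers, Subgroup.orderOf_coe, hx,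
            SmallOrders.card_sylow_subgroup (show Nat.card P = 3 ^ 1 * 8 by rw [hj]; rfl) (by norm_num) R, pow_one])
      rw [← hc R₁, ← hc R₂]
    have hK2 : Nat.card f.ker = 2 := by
      have h1 := card_dvd_of_le hKle
      rw [hNc] at h1
      have h0 : Nat.card f.ker ≠ 1 := fun h0 => hk1 (by
        rw [card_eq_one.mp h0] at hk; exact hk)
      have := Nat.le_of_dvd (by norm_num) h1
      interval_cases hS : Nat.card f.ker <;> omega
    obtain ⟨q, hq⟩ := exists_prime_orderOf_dvd_card' (G := (Q : Subgroup P)) 3 (hQc.symm ▸ dvd_rfl)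
    have hkq : (k : P) * q = q * k := by
      obtain ⟨a, b, hab, huniv⟩ := Nat.card_eq_two_iff.mp hK2
      have hmem : (q : P) * k * (q : P)⁻¹ ∈ f.ker :=
        (inferInstance : f.ker.Normal).conj_mem k hk q
      have e1 : (⟨_, hmem⟩ : f.ker) ≠ 1 := fun e => hk1 (by
        have := congrArg Subtype.val e
        simpa [conj_eq_one_iff] using this)
      have e2 : (⟨k, hk⟩ : f.ker) ≠ 1 := fun e => hk1 (congrArg Subtype.val e)
      have : (⟨_, hmem⟩ : f.ker) = ⟨k, hk⟩ := by
        have hall : ∀ c : f.ker, c = a ∨ c = b := fun c => by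
          have : c ∈ ({a, b} : Set f.ker) := huniv ▸ Set.mem_univ c
          simpa using this
        rcases hall ⟨_, hmem⟩ with h1 | h1 <;> rcases hall ⟨k, hk⟩ with h2 | h2 <;>
          rcases hall 1 with h3 | h3 <;> simp_all
      exact (mul_inv_eq_iff_eq_mul.mp (congrArg Subtype.val this)).symm
    have hc3 := SmallOrders.S168.centralizer_three h (x := ((q : P) : X))
      (by rw [Subgroup.orderOf_coe, Subgroup.orderOf_coe, hq])
    have hkc : ((k : P) : X) ∈ centralizer ({((q : P) : X)} : Set X) :=
      mem_centralizer_singleton_iff.mpr (congrArg Subtype.val hkq)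
    have hk2 : orderOf (k : P) = 2 := by
      have h1 : orderOf (⟨k, hk⟩ : f.ker) ∣ 2 := hK2 ▸ orderOf_dvd_natCard _
      rcases (Nat.dvd_prime Nat.prime_two).mp h1 with h | h
      · exact absurd (congrArg Subtype.val (orderOf_eq_one_iff.mp h)) hk1
      · rw [← h]; exact Subgroup.orderOf_coe (⟨k, hk⟩ : f.ker)
    have h5 := orderOf_dvd_natCard (⟨_, hkc⟩ : centralizer ({((q : P) : X)} : Set X))
    rw [Subgroup.orderOf_mk, Subgroup.orderOf_coe, hk2, hc3] at h5
    norm_num at h5
  have hinj : Function.Injective f := (MonoidHom.ker_eq_bot_iff f).mp hker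
  have hbij : Function.Bijective f := (Nat.bijective_iff_injective_and_card _).mpr ⟨hinj, by
    rw [hj, Nat.card_perm, hn]; rfl⟩
  haveI : Nontrivial (Sylow 3 P) := Finite.one_lt_card_iff_nontrivial.mp (by rw [hn]; norm_num)
  have hsurj : Function.Surjective (Equiv.Perm.sign.comp f) :=
    (Equiv.Perm.sign_surjective (Sylow 3 P)).comp hbij.2
  refine h2 ((Equiv.Perm.sign.comp f).ker) ?_
  rw [index_ker, MonoidHom.range_eq_top.mpr hsurj, card_top, Nat.card_eq_fintype_card]
  rfl

end Cfsg.Agent.RuNorm
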