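/-
An odd normal subgroup with quotient of order 168 of a group acting on an elementary abelian group
of order `2 ^ 8` on which a 2-subgroup fixes only one involution.

* `odd_part_eq_bot` : the odd normal subgroup is trivial.
-/
import Mathlib
import Cfsg.Agent.Lib.AltE7.Section
import Cfsg.Agent.EqLemmas

set_option autoImplicit false

namespace Cfsg.Agent.RuNorm

open Subgroup

theorem not_dvd_mulAut : ∀ r ∈ ({3, 5, 17} : Finset ℕ),
    ¬ r ^ 6 ∣ (∏ i : Fin 8, (2 ^ 8 - 2 ^ i.val)) ∧
    ∀ m : Fin 6, ¬ 7 ∣ ∏ i : Fin m, (r ^ (m : ℕ) - r ^ i.val) := by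
  decide +kernel

theorem odd_part_eq_bot {V : Type*} [CommGroup V] [Finite V] (hV : ∀ v : V, v ^ 2 = 1)
    (hcard : Nat.card V = 2 ^ 8) (X : Subgroup (MulAut V)) (A : Subgroup X) [A.Normal]
    (hA : Odd (Nat.card A)) [IsSimpleGroup (X ⧸ A)] (hq : Nat.card (X ⧸ A) = 168)
    (T : Subgroup X) (hT : IsPGroup 2 T) (v₀ : V)
    (huniq : ∀ v : V, (∀ t ∈ T, (t : MulAut V) v = v) → v = 1 ∨ v = v₀) : A = ⊥ := by
  classical
  haveI : Fact (Nat.Prime 2) := ⟨Nat.prime_two⟩
  by_contra hne
  obtain ⟨r, hr, hrA⟩ : ∃ r, r.Prime ∧ r ∣ Nat.card A :=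
    ⟨(Nat.card A).minFac, Nat.minFac_prime (fun h => hne (card_eq_one.mp h)), Nat.minFac_dvd _⟩
  haveI : Fact r.Prime := ⟨hr⟩
  have hr2 : r ≠ 2 := by
    rintro rfl
    exact (Nat.not_even_iff_odd.mpr hA) (even_iff_two_dvd.mpr hrA)
  obtain ⟨R₀⟩ := (inferInstance : Nonempty (Sylow r A))
  -- move the Sylow subgroup so that `T` normalises it
  set Y₀ := normalizer (((R₀ : Subgroup A).map A.subtype : Subgroup X) : Set X)
  have hY₀ : Y₀ ⊔ A = ⊤ := Sylow.normalizer_sup_eq_top R₀
  have hidx : ¬ 2 ∣ Y₀.index := by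
    intro hd
    have h1 : Y₀.index ∣ Nat.card A := by
      have e1 : A.relIndex Y₀ = A.index := by
        rw [← relIndex_sup_right Y₀ A, hY₀, relIndex_top_right]
      have e2 := (A.subgroupOf Y₀).card_mul_index
      have e3 := Y₀.card_mul_index
      rw [← A.card_mul_index, ← e2] at e3
      refine ⟨Nat.card (A.subgroupOf Y₀), ?_⟩
      change Nat.card (A.subgroupOf Y₀) * A.relIndex Y₀ * Y₀.index = Nat.card A * A.index at e3
      rw [e1] at e3
      refine Nat.eq_of_mul_eq_mul_right (Nat.pos_of_ne_zero (FiniteIndex.index_ne_zero (H := A))) ?_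
      rw [← e3]; ring
    exact (Nat.not_even_iff_odd.mpr hA) (even_iff_two_dvd.mpr (hd.trans h1))
  obtain ⟨P⟩ := (inferInstance : Nonempty (Sylow 2 Y₀))
  obtain ⟨S, hS⟩ := (P.isPGroup'.map Y₀.subtype).exists_le_sylow
  obtain ⟨S', hS'⟩ := hT.exists_le_sylow
  have hSY : (S : Subgroup X) ≤ Y₀ := by
    have hc : Nat.card ((P : Subgroup Y₀).map Y₀.subtype) = Nat.card (S : Subgroup X) := by
      rw [card_map_of_injective Y₀.subtype_injective, P.card_eq_multiplicity,
        S.card_eq_multiplicity, ← Y₀.card_mul_index,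
        Nat.factorization_mul (Nat.card_pos).ne' FiniteIndex.index_ne_zero]
      simp [Nat.factorization_eq_zero_of_not_dvd hidx]
    exact (eq_of_le_of_card_ge hS hc.ge).ge.trans (map_subtype_le _)
  obtain ⟨g, hg⟩ := MulAction.exists_smul_eq X S' S
  have hgT : ∀ t ∈ T, g * t * g⁻¹ ∈ Y₀ := by
    intro t ht
    refine hSY ?_
    have : MulAut.conj g • t ∈ ((g • S' : Sylow 2 X) : Subgroup X) := by
      rw [Sylow.coe_subgroup_smul]
      exact smul_mem_pointwise_smul t _ _ (hS' ht)
    rw [hg] at this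
    simpa using this
  -- the subgroup `B`
  set R : Subgroup X := ((R₀ : Subgroup A).map A.subtype).map (MulAut.conj g⁻¹).toMonoidHom with hR
  have hRp : IsPGroup r R := (R₀.isPGroup'.map _).map _
  have hRne : R ≠ ⊥ := by
    intro h
    have h1 : Nat.card R = Nat.card (R₀ : Subgroup A) := by
      rw [hR, card_map_of_injective (MulAut.conj g⁻¹).injective,
        card_map_of_injective A.subtype_injective]
    rw [h, card_bot] at h1
    exact R₀.ne_bot_of_dvd_card hrA (card_eq_one.mp h1.symm)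
  set Y := normalizer (R : Set X) with hY
  have hYeq : ∀ x : X, g * x * g⁻¹ ∈ Y₀ → x ∈ Y := by
    intro x hx
    rw [hY, mem_normalizer_iff]
    intro a
    have hmem : ∀ a, a ∈ R ↔ g * a * g⁻¹ ∈ (R₀ : Subgroup A).map A.subtype := by
      intro a
      rw [hR]
      constructor
      · rintro ⟨b, hb, rfl⟩
        have e : g * (MulAut.conj g⁻¹).toMonoidHom b * g⁻¹ = b := by simp [mul_assoc]
        rw [e]; exact hb
      · intro ha; exact ⟨_, ha, by simp [mul_assoc]⟩
    rw [hmem, hmem, (mem_normalizer_iff.mp hx _)]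
    rw [show g * x * g⁻¹ * (g * a * g⁻¹) * (g * x * g⁻¹)⁻¹ = g * (x * a * x⁻¹) * g⁻¹ by group]
  have hTY : T ≤ Y := fun t ht => hYeq t (hgT t ht)
  have hYA : ∀ x : X, ∃ y ∈ Y, (QuotientGroup.mk y : X ⧸ A) = QuotientGroup.mk x := by
    intro x
    obtain ⟨y, hy, a, ha, he⟩ := mem_sup_of_normal_right.mp
      (show g * x * g⁻¹ ∈ Y₀ ⊔ A from hY₀ ▸ mem_top _)
    refine ⟨g⁻¹ * y * g, hYeq _ (by simpa [mul_assoc] using hy), QuotientGroup.eq.mpr ?_⟩
    have e : (g⁻¹ * y * g)⁻¹ * x = g⁻¹ * a * g := by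
      have e2 : a = y⁻¹ * (g * x * g⁻¹) := by rw [← he]; group
      rw [e2]; group
    rw [e]
    simpa using (inferInstance : A.Normal).conj_mem a ha g⁻¹
  let B : Subgroup X :=
    { carrier := {b | b ∈ R ∧ (∀ c ∈ R, b * c = c * b) ∧ b ^ r = 1}
      one_mem' := ⟨one_mem _, fun c _ => by simp, one_pow _⟩
      mul_mem' := by
        rintro a b ⟨ha, hac, har⟩ ⟨hb, hbc, hbr⟩
        refine ⟨mul_mem ha hb, fun c hc => by rw [mul_assoc, hbc c hc, ← mul_assoc, hac c hc, mul_assoc], ?_⟩
        rw [Commute.mul_pow (hac b hb), har, hbr, one_mul]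
      inv_mem' := by
        rintro a ⟨ha, hac, har⟩
        refine ⟨inv_mem ha, fun c hc => ?_, by rw [inv_pow, har, inv_one]⟩
        exact (Commute.inv_left (hac c hc)).eq }
  have hBne : B ≠ ⊥ := by
    haveI : Nontrivial R := (nontrivial_iff_ne_bot R).mpr hRne
    haveI := hRp.center_nontrivial
    obtain ⟨m, hm⟩ := IsPGroup.iff_card.mp (hRp.to_subgroup (center R))
    have hm0 : m ≠ 0 := fun h0 => by
      have := Finite.one_lt_card (α := center R)
      rw [hm, h0, pow_zero] at this
      omega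
    obtain ⟨b, hb⟩ := exists_prime_orderOf_dvd_card' (G := center R) r (hm ▸ dvd_pow_self r hm0)
    intro hB
    have hbB : ((b : R) : X) ∈ B := ⟨(b : R).2,
      fun c hc => congrArg Subtype.val ((mem_center_iff.mp b.2 ⟨c, hc⟩).symm),
      by rw [← Subgroup.coe_pow, ← Subgroup.coe_pow, ← hb, pow_orderOf_eq_one]; rfl⟩
    rw [hB, mem_bot] at hbB
    have : b = 1 := Subtype.ext (Subtype.ext hbB)
    rw [this, orderOf_one] at hb
    exact hr.one_lt.ne hb
  haveI hBcomm : ∀ a b : B, a * b = b * a := fun a b => Subtype.ext (a.2.2.1 b b.2.1)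
  letI : CommGroup B := { (inferInstance : Group B) with mul_comm := hBcomm }
  have hBexp : ∀ b : B, b ^ r = 1 := fun b => Subtype.ext b.2.2.2
  have hBn : ∀ y ∈ Y, ∀ b ∈ B, y * b * y⁻¹ ∈ B := by
    intro y hy b hb
    refine ⟨(mem_normalizer_iff.mp hy b).mp hb.1, fun c hc => ?_, by rw [conj_pow, hb.2.2]; group⟩
    have hc' : y⁻¹ * c * y ∈ R := by
      refine (mem_normalizer_iff.mp hy _).mpr ?_
      rw [show y * (y⁻¹ * c * y) * y⁻¹ = c by group]
      exact hc
    calc y * b * y⁻¹ * c = y * (b * (y⁻¹ * c * y)) * y⁻¹ := by group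
      _ = y * ((y⁻¹ * c * y) * b) * y⁻¹ := by rw [hb.2.1 _ hc']
      _ = c * (y * b * y⁻¹) := by group
  -- the fixed points of `B`
  let C : Subgroup V :=
    { carrier := {v | ∀ b ∈ B, (b : MulAut V) v = v}
      one_mem' := fun b _ => map_one _
      mul_mem' := fun hv hw b hb => by rw [map_mul, hv b hb, hw b hb]
      inv_mem' := fun hv b hb => by rw [map_inv, hv b hb] }
  haveI : Fintype B := Fintype.ofFinite _
  let π : V →* V :=
    { toFun := fun v => ∏ b : B, ((b : X) : MulAut V) v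
      map_one' := by simp
      map_mul' := fun v w => by simp [Finset.prod_mul_distrib] }
  have hπC : ∀ v, π v ∈ C := by
    intro v b hb
    show (b : MulAut V) (∏ c : B, ((c : X) : MulAut V) v) = ∏ c : B, ((c : X) : MulAut V) v
    rw [map_prod]
    exact Fintype.prod_equiv (Equiv.mulLeft (⟨b, hb⟩ : B)) _ _ fun c => rfl
  have hBodd : Odd (Nat.card B) := by
    obtain ⟨k, hk⟩ := IsPGroup.iff_card.mp (hRp.to_le (fun b hb => hb.1 : B ≤ R))
    rw [hk]
    exact (hr.odd_of_ne_two hr2).pow
  have hπid : ∀ v ∈ C, π v = v := by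
    intro v hv
    show ∏ b : B, ((b : X) : MulAut V) v = v
    rw [Finset.prod_congr rfl (fun (b : B) _ => hv b.1 b.2), Finset.prod_const, Finset.card_univ,
      ← Nat.card_eq_fintype_card]
    obtain ⟨k, hk⟩ := hBodd
    rw [hk, pow_add, pow_mul, hV, one_pow, one_mul, pow_one]
  have hfixv : ∀ D : Subgroup V, D ≠ ⊥ → (∀ t ∈ T, ∀ v ∈ D, (t : MulAut V) v ∈ D) → v₀ ∈ D := by
    intro D hD hinv
    let inst : MulAction T D :=
      { smul := fun t v => ⟨((t : X) : MulAut V) v, hinv t t.2 v v.2⟩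
        one_smul := fun v => Subtype.ext rfl
        mul_smul := fun a b v => Subtype.ext rfl }
    have hd : 2 ∣ Nat.card D := by
      obtain ⟨k, hk⟩ := IsPGroup.iff_card.mp
        ((IsPGroup.of_card (p := 2) (n := 8) hcard).to_subgroup D)
      rw [hk]
      refine dvd_pow_self 2 fun h0 => hD (card_eq_one.mp ?_)
      rw [hk, h0, pow_zero]
    obtain ⟨v, hv, hne1⟩ := hT.exists_fixed_point_of_prime_dvd_card_of_fixed_point D hd
      (a := 1) (fun t => Subtype.ext (map_one ((t : X) : MulAut V)))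
    rcases huniq v (fun t ht => congrArg Subtype.val (hv ⟨t, ht⟩)) with h | h
    · exact absurd (Subtype.ext h.symm) hne1
    · exact h ▸ v.2
  have hCinv : ∀ t ∈ T, ∀ v ∈ C, (t : MulAut V) v ∈ C := by
    intro t ht v hv b hb
    have h1 := hv _ (hBn t⁻¹ (inv_mem (hTY ht)) b hb)
    rw [inv_inv, coe_mul, coe_mul, MulAut.mul_apply, MulAut.mul_apply] at h1
    have h2 := congrArg (fun w => (t : MulAut V) w) h1
    simpa [MulAut.apply_inv_self] using h2
  have hkinv : ∀ t ∈ T, ∀ v ∈ π.ker, (t : MulAut V) v ∈ π.ker := by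
    intro t ht v hv
    rw [MonoidHom.mem_ker] at hv ⊢
    have key : π ((t : MulAut V) v) = (t : MulAut V) (π v) := by
      show ∏ b : B, ((b : X) : MulAut V) ((t : MulAut V) v) = (t : MulAut V) (∏ b : B, _)
      rw [map_prod]
      let e : B ≃ B :=
        { toFun := fun b => ⟨(t : X)⁻¹ * b * (t : X), by
            simpa using hBn _ (inv_mem (hTY ht)) b b.2⟩
          invFun := fun b => ⟨(t : X) * b * (t : X)⁻¹, hBn _ (hTY ht) b b.2⟩
          left_inv := fun b => Subtype.ext (by simp [mul_assoc])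
          right_inv := fun b => Subtype.ext (by simp [mul_assoc]) }
      refine Fintype.prod_equiv e _ _ fun b => ?_
      simp [e, MulAut.apply_inv_self]
    rw [key, hv, map_one]
  have hC : C = ⊥ := by
    by_contra hC
    have hk : π.ker = ⊥ := by
      by_contra hk
      have h1 := hπid v₀ (hfixv C hC hCinv)
      rw [MonoidHom.mem_ker.mp (hfixv π.ker hk hkinv)] at h1
      -- so `v₀` is trivial and the only fixed point
      have hD := hfixv C hC hCinv
      let inst : MulAction T C :=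
        { smul := fun t v => ⟨((t : X) : MulAut V) v, hCinv t t.2 v v.2⟩
          one_smul := fun v => Subtype.ext rfl
          mul_smul := fun a b v => Subtype.ext rfl }
      have hd : 2 ∣ Nat.card C := by
        obtain ⟨k, hk⟩ := IsPGroup.iff_card.mp
          ((IsPGroup.of_card (p := 2) (n := 8) hcard).to_subgroup C)
        rw [hk]
        refine dvd_pow_self 2 fun h0 => hC (card_eq_one.mp ?_)
        rw [hk, h0, pow_zero]
      obtain ⟨v, hv, hne1⟩ := hT.exists_fixed_point_of_prime_dvd_card_of_fixed_point C hd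
        (a := 1) (fun t => Subtype.ext (map_one ((t : X) : MulAut V)))
      refine hne1 (Subtype.ext ?_)
      rcases huniq v (fun t ht => congrArg Subtype.val (hv ⟨t, ht⟩)) with h | h
      · exact h.symm
      · exact (h.trans h1.symm).symm
    have htop : ∀ v : V, v ∈ C := by
      intro v
      have hinj := (MonoidHom.ker_eq_bot_iff π).mp hk
      have : π (π v) = π v := hπid _ (hπC v)
      exact hinj this ▸ hπC v
    apply hBne
    rw [eq_bot_iff]
    intro b hb
    rw [mem_bot]
    exact Subtype.ext (MulEquiv.ext fun v => htop v b hb)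
  -- the prime
  have hr255 : r ∣ 255 := by
    let inst : MulAction B V :=
      { smul := fun b v => ((b : X) : MulAut V) v
        one_smul := fun v => rfl
        mul_smul := fun a b v => rfl }
    have h1 := (hRp.to_le (fun b hb => hb.1 : B ≤ R)).card_modEq_card_fixedPoints V
    have h2 : MulAction.fixedPoints B V = {1} := by
      ext v
      refine ⟨fun hv => ?_, fun hv b => by rw [Set.mem_singleton_iff] at hv; rw [hv]; exact map_one _⟩
      have : v ∈ C := fun b hb => hv ⟨b, hb⟩
      rw [hC] at this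
      exact this
    rw [h2, hcard, Nat.card_coe_set_eq, Set.ncard_singleton] at h1
    exact (Nat.modEq_iff_dvd' (by norm_num)).mp h1.symm
  have hr3 : r ∈ ({3, 5, 17} : Finset ℕ) := by
    have h255 : r ∣ 3 * (5 * 17) := hr255
    rcases hr.dvd_mul.mp h255 with h | h
    · simp [(Nat.prime_dvd_prime_iff_eq hr Nat.prime_three).mp h]
    rcases hr.dvd_mul.mp h with h | h
    · simp [(Nat.prime_dvd_prime_iff_eq hr Nat.prime_five).mp h]
    · simp [(Nat.prime_dvd_prime_iff_eq hr (by norm_num)).mp h]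
  obtain ⟨hV6, h7⟩ := not_dvd_mulAut r hr3
  obtain ⟨m, hm⟩ := IsPGroup.iff_card.mp (hRp.to_le (fun b hb => hb.1 : B ≤ R))
  have hm6 : m < 6 := by
    by_contra hge
    refine hV6 ?_
    rw [← AltE7.card_mulAut_elem (s := 2) hV hcard]
    refine dvd_trans (pow_dvd_pow r (by omega : 6 ≤ m)) ?_
    rw [← hm]
    exact (B.card_subgroup_dvd_card).trans X.card_subgroup_dvd_card
  have h7B : ¬ 7 ∣ Nat.card (MulAut B) := by
    rw [AltE7.card_mulAut_elem (s := r) hBexp hm]
    exact h7 ⟨m, hm6⟩
  -- the centraliser of `B` in `Y`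
  let cY : Y →* MulAut B :=
    { toFun := fun y =>
        { toFun := fun b => ⟨(y : X) * b * (y : X)⁻¹, hBn y y.2 b b.2⟩
          invFun := fun b => ⟨(y : X)⁻¹ * b * (y : X), by simpa using hBn _ (inv_mem y.2) b b.2⟩
          left_inv := fun b => Subtype.ext (by simp [mul_assoc])
          right_inv := fun b => Subtype.ext (by simp [mul_assoc])
          map_mul' := fun a b => Subtype.ext (by simp [mul_assoc]) }
      map_one' := MulEquiv.ext fun b => Subtype.ext (by simp)
      map_mul' := fun a b => MulEquiv.ext fun c => Subtype.ext (by simp [mul_assoc]) }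
  let qY : Y →* X ⧸ A := (QuotientGroup.mk' A).comp Y.subtype
  have hqY : Function.Surjective qY := fun q => by
    induction q using QuotientGroup.induction_on with
    | H x =>
      obtain ⟨y, hy, he⟩ := hYA x
      exact ⟨⟨y, hy⟩, he⟩
  haveI : Fact (Nat.Prime 7) := ⟨by norm_num⟩
  obtain ⟨s, hs⟩ := exists_prime_orderOf_dvd_card' (G := X ⧸ A) 7 (by rw [hq]; norm_num)
  obtain ⟨y₀, hy₀⟩ := hqY s
  have himg : cY.ker.map qY = ⊤ := by
    haveI : (cY.ker.map qY).Normal := Normal.map inferInstance qY hqY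
    rcases Normal.eq_bot_or_eq_top (inferInstance : (cY.ker.map qY).Normal) with h | h
    · exfalso
      set e := orderOf (cY y₀)
      have h1 : qY (y₀ ^ e) = 1 := by
        rw [← mem_bot, ← h]
        exact mem_map_of_mem qY (MonoidHom.mem_ker.mpr (by rw [map_pow, pow_orderOf_eq_one]))
      rw [map_pow, hy₀, ← orderOf_dvd_iff_pow_eq_one, hs] at h1
      exact h7B (h1.trans (orderOf_dvd_natCard _))
    · exact h
  have hTc : ∀ t ∈ T, ∀ b ∈ B, t * b * t⁻¹ = b := by
    intro t ht b hb
    obtain ⟨c, hc, he⟩ := (himg ▸ mem_top (qY ⟨t, hTY ht⟩) : qY ⟨t, hTY ht⟩ ∈ cY.ker.map qY)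
    set t' : Y := ⟨t, hTY ht⟩
    set a : Y := c⁻¹ * t'
    have haA : (a : X) ∈ A := QuotientGroup.eq.mp he
    have h1 : cY t' = cY a := by rw [map_mul, map_inv, MonoidHom.mem_ker.mp hc, inv_one, one_mul]
    obtain ⟨k, hk⟩ := IsPGroup.iff_orderOf.mp hT ⟨t, ht⟩
    have h2 : orderOf (cY t') ∣ 2 ^ k := by
      rw [← hk, orderOf_mk]
      refine (orderOf_map_dvd cY t').trans ?_
      rw [orderOf_mk]
    have h3 : orderOf (cY t') ∣ Nat.card A := by
      rw [h1]
      refine (orderOf_map_dvd cY a).trans ?_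
      rw [← Subgroup.orderOf_coe, ← orderOf_mk (H := A) (a : X) haA]
      exact orderOf_dvd_natCard _
    have h4 : orderOf (cY t') = 1 := Nat.eq_one_of_dvd_coprimes
      (((Nat.prime_two.coprime_iff_not_dvd).mpr fun hd =>
        (Nat.not_even_iff_odd.mpr hA) (even_iff_two_dvd.mpr hd)).pow_left k) h2 h3
    have h5 := DFunLike.congr_fun (orderOf_eq_one_iff.mp h4) (⟨b, hb⟩ : B)
    exact congrArg Subtype.val h5
  -- so `B` fixes the point fixed by `T`
  have hVne : (⊤ : Subgroup V) ≠ ⊥ := fun h => by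
    have := Subgroup.card_top (G := V)
    rw [h, card_bot, hcard] at this
    norm_num at this
  let Fx : Subgroup V :=
    { carrier := {v | ∀ t ∈ T, (t : MulAut V) v = v}
      one_mem' := fun b _ => map_one _
      mul_mem' := fun hv hw b hb => by rw [map_mul, hv b hb, hw b hb]
      inv_mem' := fun hv b hb => by rw [map_inv, hv b hb] }
  let inst : MulAction T V :=
    { smul := fun t v => ((t : X) : MulAut V) v
      one_smul := fun v => rfl
      mul_smul := fun a b v => rfl }
  obtain ⟨v, hv, hv1⟩ := hT.exists_fixed_point_of_prime_dvd_card_of_fixed_point V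
    (by rw [hcard]; norm_num) (a := 1) (fun t => map_one ((t : X) : MulAut V))
  have hv0 : v = v₀ := (huniq v fun t ht => hv ⟨t, ht⟩).resolve_left fun h => hv1 h.symm
  apply hv1
  have hvC : v ∈ C := by
    intro b hb
    have hfix : ∀ t ∈ T, (t : MulAut V) ((b : MulAut V) v) = (b : MulAut V) v := by
      intro t ht
      have e : t * b = b * t := mul_inv_eq_iff_eq_mul.mp (hTc t ht b hb)
      rw [← MulAut.mul_apply, ← coe_mul, e, coe_mul, MulAut.mul_apply]
      exact congrArg _ (hv ⟨t, ht⟩)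
    rcases huniq _ hfix with h | h
    · exact absurd ((MulEquiv.map_eq_one_iff _).mp h) fun h' => hv1 h'.symm
    · rw [h, hv0]
  rw [hC] at hvC
  exact (mem_bot.mp hvC).symm

end Cfsg.Agent.RuNorm
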