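/-
Groups with a Sylow 2-subgroup of Rudvalis type: the data used for the normaliser of `W'`.

* `Data` : the Sylow subgroup, `W`, `D = W'`, and the map onto the dihedral group of order 8.
* `Data.le_squares` : squares of a subgroup of index at most 8 of `W` generate `D`.
* `Data.conj_le_W`, `Data.conj_D_le` : conjugates into the Sylow subgroup of large subgroups of `W`.
-/
import Cfsg.Agent.Lib.RudvalisTwo.Rigid
import Cfsg.Prelude.Def_Transfer

set_option autoImplicit false

namespace Cfsg.Agent.RuNorm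

open Subgroup

/-- The data used below. -/
structure Data (G : Type*) [Group G] [Finite G] where
  T : Sylow 2 G
  W : Subgroup G
  D : Subgroup G
  wc : Cfsg.IsWeaklyClosed W (T : Subgroup G)
  D_le : D ≤ W
  card_D : Nat.card D = 8
  card_W : Nat.card W = 2 ^ 11
  D_sq : ∀ d ∈ D, d * d = 1
  D_comm : ∀ w ∈ W, ∀ d ∈ D, d * w = w * d
  sq_W : ∀ w ∈ W, w * w ∈ D
  ρ : (T : Subgroup G) →* DihedralGroup 4
  ρ_surj : Function.Surjective ρ
  ρ_ker : ∀ t, ρ t = 1 ↔ (t : G) ∈ W
  centD : ∀ t ∈ (T : Subgroup G), (∀ d ∈ D, t * d = d * t) → t ∈ W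
  deep : ∀ U : Subgroup G, U ≤ W → U.relIndex W ≤ 16 → D ≤ U
  fixed : ∃ v ∈ W, v ∉ D ∧ (∀ t ∈ (T : Subgroup G), t * v * t⁻¹ * v⁻¹ ∈ D) ∧
    ∀ x ∈ W, (∀ t ∈ (T : Subgroup G), t * x * t⁻¹ * x⁻¹ ∈ D) → x ∈ D ∨ x * v ∈ D

variable {G : Type*} [Group G] [Finite G]

/-- The subgroup generated by the squares of elements of `U`. -/
def sqs (U : Subgroup G) : Subgroup G := closure {x | ∃ u ∈ U, x = u * u}

omit [Finite G] in
theorem mul_self_mem_sqs {U : Subgroup G} {u : G} (hu : u ∈ U) : u * u ∈ sqs U :=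
  subset_closure ⟨u, hu, rfl⟩

namespace Data

variable (S : Data G)

theorem W_le : S.W ≤ (S.T : Subgroup G) := S.wc.1

theorem T_le_normalizer : (S.T : Subgroup G) ≤ normalizer (S.W : Set G) := by
  intro s hs
  rw [mem_normalizer_iff_map_conj_eq]
  refine S.wc.2 s ?_
  rintro _ ⟨w, hw, rfl⟩
  exact mul_mem (mul_mem hs (S.W_le hw)) (inv_mem hs)

theorem comm_mem_D {a b : G} (ha : a ∈ S.W) (hb : b ∈ S.W) : a⁻¹ * b⁻¹ * a * b ∈ S.D := by
  have e : a⁻¹ * b⁻¹ * a * b =
      a⁻¹ * a⁻¹ * ((a * b⁻¹) * (a * b⁻¹)) * (b * b) := by group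
  rw [e]
  exact mul_mem (mul_mem (S.sq_W _ (inv_mem ha)) (S.sq_W _ (mul_mem ha (inv_mem hb)))) (S.sq_W _ hb)

theorem conj_mem_W {w : G} (hw : w ∈ S.W) {g : G} (hg : g ∈ normalizer (S.W : Set G)) :
    g * w * g⁻¹ ∈ S.W :=
  (mem_normalizer_iff.mp hg w).mp hw

theorem sqs_le_D {U : Subgroup G} (hU : U ≤ S.W) : sqs U ≤ S.D := by
  rw [sqs, closure_le]
  rintro _ ⟨u, hu, rfl⟩
  exact S.sq_W u (hU hu)

theorem le_squares {U : Subgroup G} (hU : U ≤ S.W) (hi : U.relIndex S.W ≤ 8) : S.D ≤ sqs U := by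
  intro d hd
  by_contra hn
  have hDU : S.D ≤ U := S.deep U hU (hi.trans (by norm_num))
  obtain ⟨L, ⟨hLU, hsL, hdL⟩, hmax⟩ := Set.Finite.exists_maximal
    (s := {L : Subgroup G | L ≤ U ∧ sqs U ≤ L ∧ d ∉ L}) (Set.toFinite _)
    ⟨sqs U, closure_le _ |>.mpr (by rintro _ ⟨u, hu, rfl⟩; exact mul_mem hu hu), le_rfl, hn⟩
  have hnorm : ∀ u ∈ U, ∀ l ∈ L, u * l * u⁻¹ ∈ L := by
    intro u hu l hl
    have h1 : u * l * u⁻¹ * l⁻¹ ∈ L := hsL (by
      have e : u * l * u⁻¹ * l⁻¹ = (u * u) * ((u⁻¹ * l) * (u⁻¹ * l)) * (l⁻¹ * l⁻¹) := by group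
      rw [e]
      exact mul_mem (mul_mem (mul_self_mem_sqs hu) (mul_self_mem_sqs (mul_mem (inv_mem hu) (hLU hl))))
        (mul_self_mem_sqs (inv_mem (hLU hl))))
    simpa using mul_mem h1 hl
  have key : ∀ u ∈ U, u ∈ L ∨ d⁻¹ * u ∈ L := by
    intro u hu
    by_cases huL : u ∈ L
    · exact Or.inl huL
    right
    let K : Subgroup G :=
      { carrier := {x | x ∈ L ∨ ∃ l ∈ L, x = l * u}
        one_mem' := Or.inl L.one_mem
        mul_mem' := by
          rintro a b (ha | ⟨l, hl, rfl⟩) (hb | ⟨m, hm, rfl⟩)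
          · exact Or.inl (mul_mem ha hb)
          · exact Or.inr ⟨a * m, mul_mem ha hm, by group⟩
          · exact Or.inr ⟨l * (u * b * u⁻¹), mul_mem hl (hnorm u hu b hb), by group⟩
          · refine Or.inl ?_
            rw [show l * u * (m * u) = l * (u * m * u⁻¹) * (u * u) by group]
            exact mul_mem (mul_mem hl (hnorm u hu m hm)) (hsL (mul_self_mem_sqs hu))
        inv_mem' := by
          rintro a (ha | ⟨l, hl, rfl⟩)
          · exact Or.inl (inv_mem ha)
          · refine Or.inr ⟨(u * u)⁻¹ * (u * l⁻¹ * u⁻¹),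
              mul_mem (inv_mem (hsL (mul_self_mem_sqs hu))) (hnorm u hu _ (inv_mem hl)), ?_⟩
            group }
    have hdK : d ∈ K := by
      by_contra hdK
      refine huL (hmax (y := K) ⟨?_, fun x hx => Or.inl (hsL hx), hdK⟩ (fun x hx => Or.inl hx)
        (Or.inr ⟨1, L.one_mem, (one_mul u).symm⟩))
      rintro x (hx | ⟨l, hl, rfl⟩)
      · exact hLU hx
      · exact mul_mem (hLU hl) hu
    rcases hdK with h | ⟨l, hl, h⟩
    · exact absurd h hdL
    · have h2 : d⁻¹ * u = u⁻¹ * l⁻¹ * u := by rw [h]; group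
      rw [h2]
      have := hnorm u⁻¹ (inv_mem hu) _ (inv_mem hl)
      simpa using this
  have h2 : L.relIndex U ≤ 2 := by
    let f : Bool → U ⧸ L.subgroupOf U := fun b =>
      QuotientGroup.mk (bif b then ⟨d, hDU hd⟩ else 1)
    have hf : Function.Surjective f := by
      intro q
      induction q using QuotientGroup.induction_on with
      | H x =>
        rcases key x x.2 with h | h
        · exact ⟨false, QuotientGroup.eq.mpr (by simpa [mem_subgroupOf] using h)⟩
        · exact ⟨true, QuotientGroup.eq.mpr (by simpa [mem_subgroupOf] using h)⟩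
    have := Nat.card_le_card_of_surjective f hf
    rw [Nat.card_eq_fintype_card (α := Bool), Fintype.card_bool] at this
    exact this
  refine hdL (S.deep L (hLU.trans hU) ?_ hd)
  rw [← relIndex_mul_relIndex L U S.W hLU hU]
  calc L.relIndex U * U.relIndex S.W ≤ 2 * 8 := Nat.mul_le_mul h2 hi
    _ = 16 := by norm_num

theorem D_eq_sqs : S.D = sqs S.W :=
  le_antisymm (S.le_squares le_rfl (by rw [relIndex_self]; norm_num)) (S.sqs_le_D le_rfl)

theorem conj_mem_D {d : G} (hd : d ∈ S.D) {g : G} (hg : g ∈ normalizer (S.W : Set G)) :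
    g * d * g⁻¹ ∈ S.D := by
  have h : (sqs S.W).map (MulAut.conj g).toMonoidHom ≤ sqs S.W := by
    rw [sqs, MonoidHom.map_closure, closure_le]
    rintro _ ⟨_, ⟨w, hw, rfl⟩, rfl⟩
    refine subset_closure ⟨g * w * g⁻¹, S.conj_mem_W hw hg, ?_⟩
    simp [MulAut.conj_apply]
  rw [S.D_eq_sqs] at hd ⊢
  exact h ⟨d, hd, rfl⟩

theorem normalizer_W_le : normalizer (S.W : Set G) ≤ normalizer (S.D : Set G) := by
  intro g hg
  rw [mem_normalizer_iff]
  refine fun d => ⟨fun hd => S.conj_mem_D hd hg, fun hd => ?_⟩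
  have := S.conj_mem_D hd (inv_mem hg)
  simpa [mul_assoc] using this

omit [Finite G] in
theorem card_le_four : ∀ s : Finset (DihedralGroup 4), 1 ∈ s → (∀ a ∈ s, a * a = 1) →
    (∀ a ∈ s, ∀ b ∈ s, a * b ∈ s) → s.card ≤ 4 := by
  decide +kernel

/-- A Klein four-group in the dihedral group. -/
def klein : Subgroup (DihedralGroup 4) where
  carrier := {x | x = .r 0 ∨ x = .r 2 ∨ x = .sr 0 ∨ x = .sr 2}
  one_mem' := Or.inl rfl
  mul_mem' := by
    rintro a b (rfl | rfl | rfl | rfl) (rfl | rfl | rfl | rfl) <;>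
      simp only [Set.mem_setOf_eq] <;> decide
  inv_mem' := by
    rintro a (rfl | rfl | rfl | rfl) <;> simp only [Set.mem_setOf_eq] <;> decide

omit [Finite G] in
theorem klein_facts : (∀ x ∈ klein, x * x = 1) ∧ klein.index ≤ 2 := by
  constructor
  · rintro x (rfl | rfl | rfl | rfl) <;> decide
  · let f : Bool → DihedralGroup 4 ⧸ klein := fun b =>
      QuotientGroup.mk (bif b then DihedralGroup.r (1 : ZMod 4) else 1)
    have hf : Function.Surjective f := by
      intro q
      induction q using QuotientGroup.induction_on with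
      | H x =>
        have h : ∀ x : DihedralGroup 4, (x = .r 0 ∨ x = .r 2 ∨ x = .sr 0 ∨ x = .sr 2) ∨
            ((DihedralGroup.r (1 : ZMod 4))⁻¹ * x = .r 0 ∨
              (DihedralGroup.r (1 : ZMod 4))⁻¹ * x = .r 2 ∨
              (DihedralGroup.r (1 : ZMod 4))⁻¹ * x = .sr 0 ∨
              (DihedralGroup.r (1 : ZMod 4))⁻¹ * x = .sr 2) := by decide
        rcases h x with h | h
        · exact ⟨false, QuotientGroup.eq.mpr (by rw [cond_false, inv_one, one_mul]; exact h)⟩
        · exact ⟨true, QuotientGroup.eq.mpr (by rw [cond_true]; exact h)⟩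
    have := Nat.card_le_card_of_surjective f hf
    rw [Nat.card_eq_fintype_card (α := Bool), Fintype.card_bool] at this
    exact this

/-- Conjugation of a subgroup into the Sylow subgroup, followed by `ρ`. -/
def toDih {R : Subgroup G} (h : G) (hR : ∀ r ∈ R, h * r * h⁻¹ ∈ (S.T : Subgroup G)) :
    R →* DihedralGroup 4 :=
  S.ρ.comp
    { toFun := fun r => ⟨h * r * h⁻¹, hR r r.2⟩
      map_one' := Subtype.ext (by simp)
      map_mul' := fun a b => Subtype.ext (by simp [mul_assoc]) }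

theorem conj_D_le {R : Subgroup G} (hRW : R ≤ S.W) (hi : R.relIndex S.W ≤ 4) (h : G)
    (hR : ∀ r ∈ R, h * r * h⁻¹ ∈ (S.T : Subgroup G)) : ∀ d ∈ S.D, h * d * h⁻¹ ∈ S.W := by
  set U := (klein.comap (S.toDih h hR)).map R.subtype with hU
  have hUR : U ≤ R := map_subtype_le _
  have h2 : U.relIndex R ≤ 2 := by
    rw [relIndex, hU, ← comap_subtype, comap_map_eq_self_of_injective R.subtype_injective,
      index_comap]
    refine le_trans ?_ klein_facts.2
    rw [← relIndex_top_right klein]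
    exact relIndex_le_of_le_right le_top (by rw [relIndex_top_right]; exact FiniteIndex.index_ne_zero)
  intro d hd
  have hdU := S.le_squares (hUR.trans hRW) (by
    rw [← relIndex_mul_relIndex U R S.W hUR hRW]
    calc U.relIndex R * R.relIndex S.W ≤ 2 * 4 := Nat.mul_le_mul h2 hi
      _ = 8 := by norm_num) hd
  have hle : sqs U ≤ S.W.comap (MulAut.conj h).toMonoidHom := by
    rw [sqs, closure_le]
    rintro _ ⟨_, ⟨r, hr, rfl⟩, rfl⟩
    have hr2 := klein_facts.1 _ (mem_comap.mp hr)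
    rw [← map_mul] at hr2
    exact (S.ρ_ker _).mp hr2
  exact hle hdU

theorem conj_le_W {R : Subgroup G} (hRW : R ≤ S.W) (hi : R.relIndex S.W ≤ 2) (h : G)
    (hR : ∀ r ∈ R, h * r * h⁻¹ ∈ (S.T : Subgroup G)) : ∀ r ∈ R, h * r * h⁻¹ ∈ S.W := by
  classical
  have hDW := S.conj_D_le hRW (hi.trans (by norm_num)) h hR
  set φ := S.toDih h hR with hφ
  have hinv : ∀ r : R, φ r * φ r = 1 := by
    intro r
    rw [← map_mul]
    exact (S.ρ_ker _).mpr (hDW _ (S.sq_W _ (hRW r.2)))
  have h4 : Nat.card φ.range ≤ 4 := by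
    have := card_le_four (Finset.univ.filter fun x => x ∈ φ.range)
      (Finset.mem_filter.mpr ⟨Finset.mem_univ _, one_mem _⟩)
      (fun a ha => by obtain ⟨r, rfl⟩ := (Finset.mem_filter.mp ha).2; exact hinv r)
      (fun a ha b hb => Finset.mem_filter.mpr ⟨Finset.mem_univ _,
        mul_mem (Finset.mem_filter.mp ha).2 (Finset.mem_filter.mp hb).2⟩)
    rwa [← Fintype.card_subtype, ← Nat.card_eq_fintype_card] at this
  set U := φ.ker.map R.subtype with hU
  have hUR : U ≤ R := map_subtype_le _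
  have h2 : U.relIndex R ≤ 4 := by
    rw [relIndex, hU, ← comap_subtype, comap_map_eq_self_of_injective R.subtype_injective,
      index_ker]
    exact h4
  have hDU := S.le_squares (hUR.trans hRW) (by
    rw [← relIndex_mul_relIndex U R S.W hUR hRW]
    calc U.relIndex R * R.relIndex S.W ≤ 4 * 2 := Nat.mul_le_mul h2 hi
      _ = 8 := by norm_num)
  have hle : sqs U ≤ S.D.comap (MulAut.conj h).toMonoidHom := by
    rw [sqs, closure_le]
    rintro _ ⟨_, ⟨r, hr, rfl⟩, rfl⟩
    show h * ((r : G) * r) * h⁻¹ ∈ S.D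
    rw [show h * ((r : G) * r) * h⁻¹ = (h * r * h⁻¹) * (h * r * h⁻¹) by group]
    exact S.sq_W _ ((S.ρ_ker _).mp (MonoidHom.mem_ker.mp hr))
  have heq : S.D.map (MulAut.conj h).toMonoidHom = S.D := by
    refine eq_of_le_of_card_ge ?_ (le_of_eq ?_)
    · rw [map_le_iff_le_comap]; exact hDU.trans hle
    · exact (card_map_of_injective (MulAut.conj h).injective).symm
  intro r hr
  refine S.centD _ (hR r hr) fun d hd => ?_
  rw [← heq] at hd
  obtain ⟨e, he, rfl⟩ := hd
  have hc := S.D_comm r (hRW hr) e he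
  show h * r * h⁻¹ * (h * e * h⁻¹) = h * e * h⁻¹ * (h * r * h⁻¹)
  calc h * r * h⁻¹ * (h * e * h⁻¹) = h * (r * e) * h⁻¹ := by group
    _ = h * (e * r) * h⁻¹ := by rw [hc]
    _ = _ := by group

end Data

end Cfsg.Agent.RuNorm
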