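/-
A group of Rudvalis type without subgroups of index two: `N(W)` has no non-trivial character of
exponent two vanishing on `W`.

* `le_commutator` : the Sylow 2-subgroup lies in the derived group.
* `Data.hom_eq_one` : the transfer argument.
-/
import Cfsg.Agent.Lib.RuNorm.Setting
import Cfsg.Agent.Lib.YoshidaWC.Basic

set_option autoImplicit false

namespace Cfsg.Agent.RuNorm

open Subgroup

variable {G : Type*} [Group G] [Finite G]

theorem odd_index_commutator (h2 : ∀ H : Subgroup G, H.index ≠ 2) :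
    ¬ 2 ∣ (commutator G).index := by
  intro hd
  haveI : Fact (Nat.Prime 2) := ⟨Nat.prime_two⟩
  let Q := Abelianization G
  haveI : Finite Q := inferInstanceAs (Finite (G ⧸ commutator G))
  obtain ⟨q, hq⟩ := exists_prime_orderOf_dvd_card' (G := Q) 2 hd
  let sq : Q →* Q := powMonoidHom 2
  have hns : sq.range ≠ ⊤ := by
    intro hs
    have hinj : Function.Injective sq :=
      Finite.injective_iff_surjective.mpr (MonoidHom.range_eq_top.mp hs)
    have hsq1 : sq q = sq 1 := by
      show q ^ 2 = 1 ^ 2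
      rw [one_pow, ← hq, pow_orderOf_eq_one]
    have h1 := hinj hsq1
    rw [h1, orderOf_one] at hq
    norm_num at hq
  set R := sq.range
  have hP : IsPGroup 2 (Q ⧸ R) := fun x => by
    refine ⟨1, ?_⟩
    induction x using QuotientGroup.induction_on with
    | H y =>
      rw [← QuotientGroup.mk_pow, QuotientGroup.eq_one_iff]
      exact ⟨y, by rfl⟩
  obtain ⟨n, hn⟩ := IsPGroup.iff_card.mp hP
  have hn0 : n ≠ 0 := fun h0 => hns (index_eq_one.mp (by
    rw [index_eq_card, hn, h0, pow_zero]))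
  obtain ⟨K, hK⟩ := Sylow.exists_subgroup_card_pow_prime 2 (G := Q ⧸ R) (n := n - 1)
    (by rw [hn]; exact pow_dvd_pow 2 (Nat.sub_le n 1))
  have hKi : K.index = 2 := by
    have h1 := K.card_mul_index
    rw [hK, hn] at h1
    have h2 : 2 ^ n = 2 ^ (n - 1) * 2 := by rw [← pow_succ, Nat.sub_add_cancel (by omega)]
    rw [h2] at h1
    exact Nat.eq_of_mul_eq_mul_left (by positivity) h1
  let π : G →* Q ⧸ R := (QuotientGroup.mk' R).comp Abelianization.of
  have hπ : Function.Surjective π :=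
    (QuotientGroup.mk'_surjective R).comp (QuotientGroup.mk'_surjective (commutator G))
  exact h2 (K.comap π) (by rw [index_comap_of_surjective K hπ, hKi])

theorem le_commutator (h2 : ∀ H : Subgroup G, H.index ≠ 2) (T : Sylow 2 G) :
    (T : Subgroup G) ≤ commutator G := by
  haveI : Fact (Nat.Prime 2) := ⟨Nat.prime_two⟩
  intro t ht
  obtain ⟨k, hk⟩ := IsPGroup.iff_orderOf.mp T.2 ⟨t, ht⟩
  rw [← QuotientGroup.eq_one_iff, ← orderOf_eq_one_iff]
  have h1 : orderOf (t : G ⧸ commutator G) ∣ 2 ^ k := by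
    rw [← hk, orderOf_mk]
    exact orderOf_map_dvd (QuotientGroup.mk' (commutator G)) t
  have h3 : orderOf (t : G ⧸ commutator G) ∣ (commutator G).index := by
    rw [index_eq_card]; exact orderOf_dvd_natCard _
  exact Nat.eq_one_of_dvd_coprimes
    ((Nat.prime_two.coprime_iff_not_dvd.mpr (odd_index_commutator h2)).pow_left k) h1 h3

omit [Finite G] in
/-- A product over a translated set. -/
theorem prod_translate {X A : Type*} [MulAction G X] [CommMonoid A] [DecidableEq X] (f : X → A)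
    (g : G) (B : Finset X) : ∏ q ∈ B.image (g • ·), f q = ∏ b ∈ B, f (g • b) :=
  Finset.prod_image fun _ _ _ _ h => MulAction.injective g h

namespace Data

variable (S : Data G)

theorem D_central {d : G} (hd : d ∈ S.D) {w : G} (hw : w ∈ S.W) : d * w = w * d :=
  S.D_comm w hw d hd

theorem hom_eq_one_aux (h2 : ∀ H : Subgroup G, H.index ≠ 2) {A : Type*} [CommGroup A]
    (hA : ∀ a : A, a * a = 1) (H : Subgroup G) (hH : H = normalizer (S.W : Set G))
    (δ : ↥H →* A) (hδW : ∀ x : ↥H, (x : G) ∈ S.W → δ x = 1) : δ = 1 := by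
  classical
  haveI : Fact (Nat.Prime 2) := ⟨Nat.prime_two⟩
  have hTH : (S.T : Subgroup G) ≤ H := hH ▸ S.T_le_normalizer
  by_contra hne
  -- some element of the Sylow subgroup is not killed
  have hidx : ¬ 2 ∣ ((S.T : Subgroup G).subgroupOf H).index := fun hd =>
    S.T.not_dvd_index (hd.trans (Dvd.intro _ (relIndex_mul_index hTH)))
  obtain ⟨u₀, hu₀T, hu₀⟩ : ∃ u : H, (u : G) ∈ (S.T : Subgroup G) ∧ δ u ≠ 1 := by
    by_contra hall
    push Not at hall
    apply hne
    ext x
    have hle : (S.T : Subgroup G).subgroupOf H ≤ δ.ker := fun y hy =>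
      MonoidHom.mem_ker.mpr (hall y hy)
    have h1 : orderOf (δ x) ∣ 2 := orderOf_dvd_of_pow_eq_one (by rw [pow_two]; exact hA _)
    rcases (Nat.dvd_prime Nat.prime_two).mp h1 with h | h
    · exact orderOf_eq_one_iff.mp h
    · exfalso
      refine hidx ?_
      refine dvd_trans ?_ (index_dvd_of_le hle)
      rw [index_ker, ← h]
      have := orderOf_dvd_natCard (⟨δ x, x, rfl⟩ : δ.range)
      rwa [← Subgroup.orderOf_coe] at this
  obtain ⟨u, ⟨huT, hu1⟩, humin⟩ := Set.exists_min_image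
    {u : ↥H | (u : G) ∈ (S.T : Subgroup G) ∧ δ u ≠ 1}
    (fun u => orderOf (u : G)) (Set.toFinite _) ⟨u₀, hu₀T, hu₀⟩
  have huG : (u : G) ∈ commutator G := le_commutator h2 S.T huT
  have hsmall : ∀ v : ↥H, IsPGroup 2 ↥(zpowers (v : G)) →
      orderOf (v : G) < orderOf (u : G) → δ v = 1 := by
    intro v hvp hlt
    obtain ⟨n, hn, hconj⟩ := YoshidaWC.exists_conj_into S.T hTH (zpowers_le.mpr v.2) hvp
    by_contra hne
    set n' : ↥H := ⟨n, hn⟩
    have hord : orderOf ((n' * v * n'⁻¹ : ↥H) : G) = orderOf (v : G) :=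
      orderOf_injective (MulAut.conj n).toMonoidHom (MulAut.conj n).injective (v : G)
    refine (humin (n' * v * n'⁻¹) ⟨hconj v (mem_zpowers _), ?_⟩).not_gt (hord ▸ hlt)
    rwa [map_mul, map_mul, map_inv, mul_comm (δ n'), mul_inv_cancel_right]
  -- the cocycle
  let d : G → G ⧸ H → A := fun g q => δ ⟨(g • q).out⁻¹ * g * q.out, YoshidaWC.term_mem g q⟩
  have hd : ∀ a b q, d (a * b) q = d b q * d a (b • q) := by
    intro a b q
    rw [mul_comm (d b q)]
    show δ ⟨_, YoshidaWC.term_mem (a * b) q⟩ =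
      δ ⟨_, YoshidaWC.term_mem a (b • q)⟩ * δ ⟨_, YoshidaWC.term_mem b q⟩
    rw [← map_mul]
    congr 1
    refine Subtype.ext ?_
    show ((a * b) • q).out⁻¹ * (a * b) * q.out =
      (a • b • q).out⁻¹ * a * (b • q).out * ((b • q).out⁻¹ * b * q.out)
    rw [mul_smul]; group
  have hd1 : ∀ q, d 1 q = 1 := fun q => by
    have h2 := hd 1 1 q
    rw [one_mul, one_smul] at h2
    exact (mul_eq_left.1 h2.symm)
  have hfix : ∀ (g : G) (q : G ⧸ H), g • q = q → ∃ hm : q.out⁻¹ * g * q.out ∈ H,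
      d g q = δ ⟨q.out⁻¹ * g * q.out, hm⟩ := by
    intro g q hq
    have hm := YoshidaWC.term_mem g q
    have h2 : (g • q).out⁻¹ * g * q.out = q.out⁻¹ * g * q.out := by rw [hq]
    exact ⟨h2 ▸ hm, congrArg δ (Subtype.ext h2)⟩
  haveI : Fintype (G ⧸ H) := Fintype.ofFinite _
  let V : G →* A :=
    { toFun := fun g => ∏ q, d g q
      map_one' := by simp [hd1]
      map_mul' := fun a b => by
        simp only [hd, Finset.prod_mul_distrib]
        rw [mul_comm]
        congr 1
        exact Fintype.prod_equiv (MulAction.toPerm b) _ _ fun q => rfl }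
  have hVu : ∏ q, d (u : G) q = 1 := Abelianization.commutator_subset_ker V huG
  -- products over sets
  let th : Finset (G ⧸ H) → G → A := fun B v => ∏ b ∈ B, d v b
  have thMul : ∀ (B : Finset (G ⧸ H)) (v w : G), B.image (w • ·) = B →
      th B (v * w) = th B w * th B v := by
    intro B v w hw
    show ∏ b ∈ B, d (v * w) b = _
    rw [Finset.prod_congr rfl fun b _ => hd v w b, Finset.prod_mul_distrib,
      ← prod_translate (fun q => d v q) w B, hw]
  have thTr : ∀ (B : Finset (G ⧸ H)) (v z : G), B.image ((z⁻¹ * v * z) • ·) = B →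
      th (B.image (z • ·)) v = th B (z⁻¹ * v * z) := by
    intro B v z hB
    have h1 : ∏ b ∈ B, d (v * z) b = th B z * th (B.image (z • ·)) v := by
      rw [Finset.prod_congr rfl fun b _ => hd v z b, Finset.prod_mul_distrib]
      show th B z * _ = th B z * ∏ q ∈ _, d v q
      rw [prod_translate]
    have h3 := thMul B z (z⁻¹ * v * z) hB
    rw [show z * (z⁻¹ * v * z) = v * z by group] at h3
    have h4 : th B z * th (B.image (z • ·)) v = th B (z⁻¹ * v * z) * th B z := h1.symm.trans h3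
    rw [mul_comm (th B (z⁻¹ * v * z))] at h4
    exact mul_left_cancel h4
  -- moved points
  set u' : (S.T : Subgroup G) := ⟨u, huT⟩
  let dS : ↥(S.T : Subgroup G) → G ⧸ H → A := fun s q => d (s : G) q
  have hdS : ∀ (a b : (S.T : Subgroup G)) q, dS (a * b) q = dS b q * dS a (b • q) :=
    fun a b q => hd _ _ q
  have hlow : ∀ q n, 2 ∣ n → (u' ^ n) • q = q → dS (u' ^ n) q = 1 := by
    intro q n hn hq
    obtain ⟨hm, hval⟩ := hfix ((u : G) ^ n) q hq
    show d ((u : G) ^ n) q = 1
    rw [hval]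
    have hord : orderOf (q.out⁻¹ * (u : G) ^ n * q.out) = orderOf ((u : G) ^ n) := by
      rw [← orderOf_injective (MulAut.conj q.out⁻¹).toMonoidHom (MulAut.conj q.out⁻¹).injective
        ((u : G) ^ n)]
      simp [MulAut.conj_apply]
    refine hsmall ⟨_, hm⟩ ?_ ?_
    · obtain ⟨k, hk⟩ := IsPGroup.iff_orderOf.mp S.T.2 (u' ^ n)
      refine IsPGroup.of_card (n := k) ?_
      rw [Nat.card_zpowers, hord, ← hk, ← orderOf_coe, coe_pow]
    · show orderOf (q.out⁻¹ * (u : G) ^ n * q.out) < orderOf (u : G)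
      rw [hord]
      obtain ⟨k, hk⟩ := IsPGroup.iff_orderOf.mp S.T.2 u'
      rw [← orderOf_coe] at hk
      have hk0 : k ≠ 0 := fun h0 => hu1 (by
        rw [h0, pow_zero, orderOf_eq_one_iff] at hk
        rw [show u = 1 from Subtype.ext hk, map_one])
      obtain ⟨n', rfl⟩ := hn
      show orderOf ((u : G) ^ (2 * n')) < orderOf ((u' : (S.T : Subgroup G)) : G)
      rw [hk]
      refine lt_of_le_of_lt (Nat.le_of_dvd (pow_pos Nat.two_pos _) (orderOf_dvd_of_pow_eq_one
        (n := 2 ^ (k - 1)) ?_)) (Nat.pow_lt_pow_right Nat.one_lt_two (by omega))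
      rw [← pow_mul, mul_comm 2 n', mul_assoc, ← pow_succ', Nat.sub_add_cancel (by omega),
        mul_comm, pow_mul, ← hk, show ((u' : (S.T : Subgroup G)) : G) = (u : G) from rfl,
        pow_orderOf_eq_one, one_pow]
  have hmoved : ∀ P : Finset (G ⧸ H), (∀ q ∈ P, u' • q ∈ P) →
      ∏ q ∈ P, d (u : G) q = ∏ q ∈ P.filter (fun q => u' • q = q), d (u : G) q := by
    intro P hP
    rw [← Finset.prod_filter_mul_prod_filter_not P (fun q => u' • q = q), mul_eq_left]
    refine Yoshida.prod_eq_one_of_moved S.T.2 dS hdS u' hlow _ ?_ ?_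
    · intro q hq
      rw [Finset.mem_filter] at hq ⊢
      exact ⟨hP q hq.1, fun h2 => hq.2 (MulAction.injective u' h2)⟩
    · intro q hq
      exact (Finset.mem_filter.mp hq).2
  -- the coset H itself
  set q₁ : G ⧸ H := QuotientGroup.mk 1 with hq₁
  have hsq : ∀ s ∈ H, s • q₁ = q₁ := fun s hs => by
    show QuotientGroup.mk (s * 1) = QuotientGroup.mk 1
    rw [QuotientGroup.eq]; simpa using H.inv_mem hs
  have hdq₁ : d (u : G) q₁ = δ u := by
    obtain ⟨hm, hval⟩ := hfix (u : G) q₁ (hsq _ u.2)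
    rw [hval]
    have hq₁out : q₁.out ∈ H := by
      have := QuotientGroup.eq.mp (QuotientGroup.out_eq' q₁).symm
      simpa using this
    have e : (⟨q₁.out⁻¹ * (u : G) * q₁.out, hm⟩ : H) = ⟨q₁.out, hq₁out⟩⁻¹ * u * ⟨q₁.out, hq₁out⟩ :=
      Subtype.ext rfl
    rw [e, map_mul, map_mul, map_inv, mul_comm (δ _)⁻¹, inv_mul_cancel_right]
  -- values at fixed cosets
  have hval : ∀ (R : Subgroup G) (q₀ : G ⧸ H), (∀ r ∈ R, r • q₀ = q₀) → R ≤ S.W →
      ∀ r ∈ R, (∀ h : G, (∀ x ∈ R, h * x * h⁻¹ ∈ (S.T : Subgroup G)) → h * r * h⁻¹ ∈ S.W) →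
      d r q₀ = 1 := by
    intro R q₀ hR hRW r hr hW'
    set g := q₀.out
    have hmem : ∀ x ∈ R, g⁻¹ * x * g ∈ H := fun x hx => (hfix x q₀ (hR x hx)).1
    obtain ⟨n, hn, hconj⟩ := YoshidaWC.exists_conj_into S.T hTH (P := R.map (MulAut.conj g⁻¹).toMonoidHom)
      (by rintro _ ⟨x, hx, rfl⟩; simpa using hmem x hx) ((S.T.2.to_le (hRW.trans S.W_le)).map _)
    have h1 : n * g⁻¹ * r * (n * g⁻¹)⁻¹ ∈ S.W := hW' (n * g⁻¹) (fun x hx => by
      have := hconj (g⁻¹ * x * g) ⟨x, hx, by simp⟩
      simpa [mul_assoc] using this)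
    obtain ⟨hm, he⟩ := hfix r q₀ (hR r hr)
    rw [he]
    refine hδW _ ?_
    have := S.conj_mem_W h1 (g := n⁻¹) (hH ▸ inv_mem hn)
    simpa [mul_assoc, g] using this
  have hWmove : ∀ q : G ⧸ H, (∀ w ∈ S.W, w • q = q) → q = q₁ := by
    intro q hq
    set g := q.out
    have hP : ∀ w ∈ S.W, g⁻¹ * w * g ∈ H := fun w hw => (hfix w q (hq w hw)).1
    obtain ⟨n, hn, hconj⟩ := YoshidaWC.exists_conj_into S.T hTH (P := S.W.map (MulAut.conj g⁻¹).toMonoidHom)
      (by rintro _ ⟨w, hw, rfl⟩; simpa using hP w hw) ((S.T.2.to_le S.W_le).map _)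
    have h1 : S.W.map (MulAut.conj (n * g⁻¹)).toMonoidHom = S.W := S.wc.2 _ (by
      rintro _ ⟨w, hw, rfl⟩
      have := hconj (g⁻¹ * w * g) ⟨w, hw, by simp⟩
      simpa [mul_assoc] using this)
    have h2 : n * g⁻¹ ∈ H := hH.symm ▸ mem_normalizer_iff_map_conj_eq.mpr h1
    have hg : g ∈ H := by
      have := H.mul_mem (H.inv_mem hn) h2
      rw [inv_mul_cancel_left] at this
      simpa using H.inv_mem this
    rw [← QuotientGroup.out_eq' q, hq₁, QuotientGroup.eq]
    simpa using H.inv_mem hg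
  -- the contribution of an orbit of W
  let orb : Subgroup G → G ⧸ H → Finset (G ⧸ H) := fun K q₀ =>
    Finset.univ.filter fun q => ∃ k ∈ K, k • q₀ = q
  have horbInv : ∀ (K : Subgroup G) q₀, ∀ k ∈ K, (orb K q₀).image (k • ·) = orb K q₀ := by
    intro K q₀ k hk
    refine Finset.eq_of_subset_of_card_le ?_ (le_of_eq ?_)
    · intro q hq
      obtain ⟨b, hb, rfl⟩ := Finset.mem_image.mp hq
      obtain ⟨-, l, hl, rfl⟩ := Finset.mem_filter.mp hb
      exact Finset.mem_filter.mpr ⟨Finset.mem_univ _, k * l, mul_mem hk hl, mul_smul _ _ _⟩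
    · exact (Finset.card_image_of_injective _ (MulAction.injective k)).symm
  have hsplit : ∀ (W' K : Subgroup G) q₀ z, K ≤ W' → z ∈ W' → z ∉ K →
      (∀ w ∈ W', w • q₀ = q₀ → w ∈ K) → (∀ w ∈ W', w ∉ K → z⁻¹ * w ∈ K) →
      orb W' q₀ = orb K q₀ ∪ (orb K q₀).image (z • ·) ∧
        Disjoint (orb K q₀) ((orb K q₀).image (z • ·)) := by
    intro W' K q₀ z hKW hz hzK hst hco
    constructor
    · ext q
      simp only [orb, Finset.mem_union, Finset.mem_image, Finset.mem_filter, Finset.mem_univ,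
        true_and]
      constructor
      · rintro ⟨w, hw, rfl⟩
        by_cases hwK : w ∈ K
        · exact Or.inl ⟨w, hwK, rfl⟩
        · exact Or.inr ⟨(z⁻¹ * w) • q₀, ⟨_, hco w hw hwK, rfl⟩, by
            rw [← mul_smul, mul_inv_cancel_left]⟩
      · rintro (⟨k, hk, rfl⟩ | ⟨_, ⟨k, hk, rfl⟩, rfl⟩)
        · exact ⟨k, hKW hk, rfl⟩
        · exact ⟨z * k, mul_mem hz (hKW hk), mul_smul _ _ _⟩
    · rw [Finset.disjoint_left]
      intro q h1 h2
      obtain ⟨-, k, hk, rfl⟩ := Finset.mem_filter.mp h1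
      obtain ⟨b, hb, hzb⟩ := Finset.mem_image.mp h2
      obtain ⟨-, l, hl, rfl⟩ := Finset.mem_filter.mp hb
      have h3 : (k⁻¹ * z * l) • q₀ = q₀ := by
        rw [mul_smul, mul_smul, hzb, inv_smul_smul]
      have h4 := hst _ (mul_mem (mul_mem (inv_mem (hKW hk)) hz) (hKW hl)) h3
      exact hzK (by simpa [mul_assoc] using mul_mem (mul_mem hk h4) (inv_mem hl))
  -- a subgroup of index two
  have hmax : ∀ (X R : Subgroup G), IsPGroup 2 X → R ≤ X → ¬ X ≤ R →
      ∃ K : Subgroup G, R ≤ K ∧ K ≤ X ∧ K.relIndex X = 2 := by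
    intro X R hX hRX hne
    obtain ⟨m, hm⟩ := IsPGroup.iff_card.mp hX
    obtain ⟨n, hn⟩ := IsPGroup.iff_card.mp (hX.to_le hRX)
    have hlt : n < m := by
      by_contra hge
      refine hne (le_of_eq (eq_of_le_of_card_ge hRX ?_).symm)
      rw [hm, hn]
      exact Nat.pow_le_pow_right Nat.two_pos (by omega)
    obtain ⟨K, hKc, hKR⟩ := Sylow.exists_subgroup_card_pow_prime_le 2 (G := ↥X) (n := n) (m := m - 1)
      (by rw [hm]; exact pow_dvd_pow 2 (Nat.sub_le m 1)) (R.subgroupOf X)
      (by rw [Nat.card_congr (subgroupOfEquivOfLe hRX).toEquiv, hn]) (by omega)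
    refine ⟨K.map X.subtype, fun r hr => ⟨⟨r, hRX hr⟩, hKR hr, rfl⟩, map_subtype_le _, ?_⟩
    rw [relIndex, ← comap_subtype, comap_map_eq_self_of_injective X.subtype_injective]
    have h1 := K.card_mul_index
    rw [hKc, hm, show 2 ^ m = 2 ^ (m - 1) * 2 by rw [← pow_succ, Nat.sub_add_cancel (by omega)]] at h1
    exact Nat.eq_of_mul_eq_mul_left (by positivity) h1
  have htwo : ∀ (X K : Subgroup G), K ≤ X → K.relIndex X = 2 →
      (∀ a ∈ X, ∀ b ∈ X, a ∉ K → b ∉ K → a * b ∈ K) ∧ (∀ a ∈ X, ∀ k ∈ K, a * k * a⁻¹ ∈ K) := by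
    intro X K hKX hi
    have hm : ∀ a ∈ X, ∀ b ∈ X, a * b ∈ K ↔ (a ∈ K ↔ b ∈ K) := fun a ha b hb =>
      mul_mem_iff_of_index_two (H := K.subgroupOf X) hi (a := ⟨a, ha⟩) (b := ⟨b, hb⟩)
    refine ⟨fun a ha b hb h1 h2 => (hm a ha b hb).mpr (iff_of_false h1 h2), fun a ha k hk => ?_⟩
    rw [hm _ (mul_mem ha (hKX hk)) _ (inv_mem ha), hm _ ha _ (hKX hk), inv_mem_iff]
    exact ⟨fun h => h.mpr hk, fun h => iff_of_true h hk⟩
  have horbit : ∀ q₀, q₀ ≠ q₁ → (u : G) • q₀ = q₀ → th (orb S.W q₀) (u : G) = 1 := by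
    intro q₀ hq₀ hu₀
    set R := S.W ⊓ MulAction.stabilizer G q₀ with hR
    have hRfix : ∀ r ∈ R, r • q₀ = q₀ := fun r hr => hr.2
    have hWn : ∀ w ∈ S.W, ∀ t ∈ (S.T : Subgroup G), t * w * t⁻¹ ∈ S.W := fun w hw t ht =>
      S.conj_mem_W hw (hH ▸ hTH ht)
    set X := S.W ⊔ zpowers (u : G)
    have hXT : X ≤ (S.T : Subgroup G) := sup_le S.W_le (zpowers_le.mpr huT)
    have hXne : ¬ X ≤ R ⊔ zpowers (u : G) := by
      intro hle
      refine hq₀ (hWmove q₀ fun w hw => ?_)
      exact (sup_le (inf_le_right : R ≤ _) (zpowers_le.mpr hu₀)) (hle (mem_sup_left hw))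
    obtain ⟨M, hRM, hMX, hMi⟩ := hmax X (R ⊔ zpowers (u : G)) (S.T.2.to_le hXT)
      (sup_le_sup_right inf_le_left _) hXne
    obtain ⟨hM2, hMn⟩ := htwo X M hMX hMi
    set K := S.W ⊓ M with hK
    have huM : (u : G) ∈ M := hRM (mem_sup_right (mem_zpowers _))
    obtain ⟨z, hzW, hzM⟩ : ∃ z ∈ S.W, z ∉ M := by
      by_contra hall
      push Not at hall
      have hXM : X ≤ M := sup_le hall (zpowers_le.mpr huM)
      rw [relIndex_eq_one.mpr hXM] at hMi
      omega
    have hco : ∀ w ∈ S.W, w ∉ K → z⁻¹ * w ∈ K := fun w hw hwK =>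
      Subgroup.mem_inf.mpr ⟨mul_mem (inv_mem hzW) hw, hM2 _ (mem_sup_left (inv_mem hzW)) _ (mem_sup_left hw)
        (fun h => hzM (inv_mem_iff.mp h)) fun h => hwK ⟨hw, h⟩⟩
    have hKW : K ≤ S.W := inf_le_left
    have hRK : R ≤ K := fun r hr => ⟨hr.1, hRM (mem_sup_left hr)⟩
    obtain ⟨hOeq, hOdis⟩ := hsplit S.W K q₀ z hKW hzW (fun h => hzM h.2)
      (fun w hw hf => hRK ⟨hw, hf⟩) hco
    set B := orb K q₀ with hB
    have huB : ∀ v ∈ M, (∀ w ∈ S.W, v * w * v⁻¹ ∈ S.W) → v • q₀ ∈ B → B.image (v • ·) = B := by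
      intro v hv hvW hvq
      refine Finset.eq_of_subset_of_card_le ?_ (le_of_eq
        (Finset.card_image_of_injective _ (MulAction.injective v)).symm)
      intro q hq
      obtain ⟨b, hb, rfl⟩ := Finset.mem_image.mp hq
      obtain ⟨-, k, hk, rfl⟩ := Finset.mem_filter.mp hb
      obtain ⟨-, l, hl, hlq⟩ := Finset.mem_filter.mp hvq
      refine Finset.mem_filter.mpr ⟨Finset.mem_univ _, v * k * v⁻¹ * l,
        mul_mem (Subgroup.mem_inf.mpr ⟨hvW k hk.1, mul_mem (mul_mem hv hk.2) (inv_mem hv)⟩) hl, ?_⟩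
      rw [mul_smul, hlq, ← mul_smul, ← mul_smul]
      congr 1
      group
    set v : G := (u : G)⁻¹ * z⁻¹ * u * z with hv
    have hvW : v ∈ S.W := by
      have := mul_mem (hWn _ (inv_mem hzW) _ (inv_mem huT)) hzW
      simpa [v] using this
    have hvK : v ∈ K := by
      refine ⟨hvW, ?_⟩
      have h1 : z⁻¹ * u * z ∈ M := by
        have := hMn z⁻¹ (mem_sup_left (inv_mem hzW)) _ huM
        simpa using this
      have := mul_mem (inv_mem huM) h1
      simpa [v, mul_assoc] using this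
    have huBeq : B.image ((u : G) • ·) = B := huB _ huM (fun w hw => hWn w hw _ huT)
      (by rw [hu₀]; exact Finset.mem_filter.mpr ⟨Finset.mem_univ _, 1, one_mem _, one_smul _ _⟩)
    have hvB : B.image (v • ·) = B := horbInv K q₀ v hvK
    have huvB : B.image (((u : G) * v) • ·) = B := by
      conv_rhs => rw [← huBeq, ← hvB]
      rw [Finset.image_image]
      refine Finset.image_congr fun b _ => ?_
      exact mul_smul _ _ _
    have hthv : th B v = 1 := by
      have hKi : K.relIndex S.W ≤ 2 := by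
        rw [hK, inf_comm, inf_relIndex_right]
        have := hMi
        have hle : S.W ≤ X := le_sup_left
        exact (relIndex_le_of_le_right hle (by omega)).trans (le_of_eq hMi)
      by_cases hKR : K ≤ R
      · have hBs : B = {q₀} := by
          ext q
          simp only [hB, orb, Finset.mem_filter, Finset.mem_univ, true_and, Finset.mem_singleton]
          exact ⟨fun ⟨k, hk, h⟩ => h ▸ hRfix k (hKR hk), fun h => ⟨1, one_mem _, by rw [one_smul, h]⟩⟩
        show ∏ b ∈ B, d v b = 1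
        rw [hBs, Finset.prod_singleton]
        exact hval K q₀ (fun r hr => hRfix r (hKR hr)) hKW v hvK
          fun h hh => S.conj_le_W hKW hKi h hh v hvK
      · obtain ⟨L, hRL, hLK, hLi⟩ := hmax K R (S.T.2.to_le (hKW.trans S.W_le)) hRK hKR
        obtain ⟨hL2, hLn⟩ := htwo K L hLK hLi
        obtain ⟨y, hyK, hyL⟩ : ∃ y ∈ K, y ∉ L := by
          by_contra hall
          push Not at hall
          rw [relIndex_eq_one.mpr hall] at hLi
          omega
        obtain ⟨hBeq, hBdis⟩ := hsplit K L q₀ y hLK hyK hyL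
          (fun w hw hf => hRL ⟨hKW hw, hf⟩)
          (fun w hw hwL => hL2 _ (inv_mem hyK) _ hw (fun h => hyL (inv_mem_iff.mp h)) hwL)
        set B₁ := orb L q₀ with hB₁
        have hLW : L ≤ S.W := hLK.trans hKW
        have hL4 : L.relIndex S.W ≤ 4 := by
          rw [← relIndex_mul_relIndex L K S.W hLK hKW, hLi]
          omega
        have hDL : S.D ≤ L := S.deep L hLW (hL4.trans (by norm_num))
        have hD1 : ∀ e ∈ S.D, th B₁ e = 1 := by
          intro e he
          by_cases hefix : e • q₀ = q₀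
          · have hall : ∀ b ∈ B₁, d e b = d e q₀ := by
              intro b hb
              obtain ⟨-, l, hl, rfl⟩ := Finset.mem_filter.mp hb
              have h1 := hd e l q₀
              rw [S.D_central he (hLW hl), hd l e q₀, hefix, mul_comm] at h1
              exact mul_left_cancel h1.symm
            show ∏ b ∈ B₁, d e b = 1
            rw [Finset.prod_congr rfl hall, Finset.prod_const]
            by_cases hLR : L ≤ R
            · have h1 : d e q₀ = 1 := hval L q₀ (fun r hr => hRfix r (hLR hr)) hLW e (hDL he)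
                fun h hh => S.conj_D_le hLW hL4 h hh e he
              rw [h1, one_pow]
            · have hev : 2 ∣ B₁.card := by
                have hLp : IsPGroup 2 L := S.T.2.to_le (hLW.trans S.W_le)
                obtain ⟨n, hn⟩ := hLp.card_orbit q₀
                have hcard : B₁.card = Nat.card (MulAction.orbit L q₀) := by
                  rw [Nat.card_coe_set_eq, ← Set.ncard_coe_finset]
                  congr 1
                  ext q
                  simp only [hB₁, orb, Finset.coe_filter, Finset.mem_univ, true_and,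
                    MulAction.mem_orbit_iff]
                  exact ⟨fun ⟨k, hk, h⟩ => ⟨⟨k, hk⟩, h⟩, fun ⟨k, h⟩ => ⟨k, k.2, h⟩⟩
                rw [hcard, hn]
                refine dvd_pow_self 2 fun h0 => hLR fun l hl => ⟨hLW hl, ?_⟩
                rw [h0, pow_zero, Nat.card_eq_one_iff_unique] at hn
                exact congrArg Subtype.val (hn.1.elim
                  (⟨l • q₀, ⟨l, hl⟩, rfl⟩ : MulAction.orbit L q₀) ⟨q₀, MulAction.mem_orbit_self _⟩)
              obtain ⟨c, hc⟩ := hev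
              rw [hc, pow_mul, pow_two, hA, one_pow]
          · refine Finset.prod_involution (fun b _ => e • b) ?_ ?_ ?_ ?_
            · intro b _
              rw [← hd, S.D_sq e he]
              exact hd1 b
            · intro b hb _ hbe
              apply hefix
              obtain ⟨-, l, hl, rfl⟩ := Finset.mem_filter.mp hb
              rw [← mul_smul, S.D_central he (hLW hl), mul_smul] at hbe
              exact MulAction.injective l hbe
            · intro b hb
              have := horbInv L q₀ e (hDL he)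
              rw [← hB₁] at this
              exact this ▸ Finset.mem_image_of_mem _ hb
            · intro b _
              rw [← mul_smul, S.D_sq e he, one_smul]
        have hBth : ∀ w, th B w = th B₁ w * th (B₁.image (y • ·)) w := fun w => by
          show ∏ b ∈ B, d w b = _
          rw [hB, hBeq, Finset.prod_union hBdis]
        have hthL : ∀ w ∈ L, th B w = 1 := by
          intro w hw
          have hw' : y⁻¹ * w * y ∈ L := by
            have := hLn y⁻¹ (inv_mem hyK) w hw
            simpa using this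
          rw [hBth, thTr B₁ w y (horbInv L q₀ _ hw'), mul_comm,
            ← thMul B₁ w _ (horbInv L q₀ _ hw')]
          refine hD1 _ ?_
          rw [show w * (y⁻¹ * w * y) = w * w * (w⁻¹ * y⁻¹ * w * y) by group]
          exact mul_mem (S.sq_W _ (hLW hw)) (S.comm_mem_D (hLW hw) (hKW hyK))
        have hthy : th B y = 1 := by
          rw [hBth]
          have h1 : th B₁ (y * y) = th B₁ y * th (B₁.image (y • ·)) y := by
            show ∏ b ∈ B₁, d (y * y) b = _
            rw [Finset.prod_congr rfl fun b _ => hd y y b, Finset.prod_mul_distrib]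
            show _ = th B₁ y * ∏ q ∈ _, d y q
            rw [prod_translate]
          rw [← h1]
          exact hD1 _ (S.sq_W _ (hKW hyK))
        by_cases hvL : v ∈ L
        · exact hthL v hvL
        · have hyv : y⁻¹ * v ∈ L :=
            hL2 _ (inv_mem hyK) _ hvK (fun h => hyL (inv_mem_iff.mp h)) hvL
          have := thMul B y (y⁻¹ * v) (horbInv K q₀ _ (hLK hyv))
          rw [mul_inv_cancel_left, hthL _ hyv, hthy, one_mul] at this
          exact this
    show ∏ q ∈ orb S.W q₀, d (u : G) q = 1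
    rw [hOeq, Finset.prod_union hOdis]
    show th B (u : G) * th (B.image (z • ·)) (u : G) = 1
    have huv : z⁻¹ * u * z = (u : G) * v := by rw [hv]; group
    rw [thTr B (u : G) z (by rw [huv]; exact huvB), huv, thMul B (u : G) v hvB, hthv, one_mul, hA]
  -- conclusion
  set Fix := (Finset.univ.filter fun q => u' • q = q).erase q₁ with hFix
  have hprodFix : ∏ q ∈ Fix, d (u : G) q ≠ 1 := by
    intro h0
    have h1 := hmoved Finset.univ (fun q _ => Finset.mem_univ _)
    have hmem : q₁ ∈ Finset.univ.filter (fun q => u' • q = q) :=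
      Finset.mem_filter.mpr ⟨Finset.mem_univ q₁, hsq _ u.2⟩
    rw [hVu, ← Finset.mul_prod_erase _ _ hmem, ← hFix, h0, mul_one, hdq₁] at h1
    exact hu1 h1.symm
  apply hprodFix
  rw [← Finset.prod_fiberwise_of_maps_to (g := fun q => orb S.W q)
    (fun q hq => Finset.mem_image_of_mem _ hq)]
  refine Finset.prod_eq_one fun O hO => ?_
  obtain ⟨q₀, hq₀, rfl⟩ := Finset.mem_image.mp hO
  obtain ⟨hq₀ne, hq₀fix⟩ : q₀ ≠ q₁ ∧ u' • q₀ = q₀ := by simpa [hFix] using hq₀
  have hself : ∀ q, q ∈ orb S.W q :=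
    fun q => Finset.mem_filter.mpr ⟨Finset.mem_univ _, 1, one_mem _, one_smul _ _⟩
  have hPu : ∀ q ∈ orb S.W q₀, u' • q ∈ orb S.W q₀ := by
    intro q hq
    obtain ⟨-, w, hw, rfl⟩ := Finset.mem_filter.mp hq
    refine Finset.mem_filter.mpr ⟨Finset.mem_univ _, u * w * u⁻¹,
      S.conj_mem_W hw (hH ▸ u.2), ?_⟩
    show (u * w * u⁻¹ : G) • q₀ = (u : G) • w • q₀
    have e : ((u : G)⁻¹) • q₀ = q₀ := inv_smul_eq_iff.mpr hq₀fix.symm
    rw [mul_smul, mul_smul]
    exact congrArg (fun q => (u : G) • w • q) e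
  have h1 := hmoved _ hPu
  have hfil : (orb S.W q₀).filter (fun q => u' • q = q) =
      Fix.filter (fun q => orb S.W q = orb S.W q₀) := by
    ext q
    simp only [Finset.mem_filter, hFix, Finset.mem_erase, Finset.mem_univ, true_and]
    constructor
    · rintro ⟨hq, hqu⟩
      obtain ⟨-, w, hw, rfl⟩ := Finset.mem_filter.mp hq
      refine ⟨⟨fun e => hq₀ne ?_, hqu⟩, ?_⟩
      · have h3 : w • q₁ = q₁ := hsq w (hTH (S.W_le hw))
        exact MulAction.injective w (e.trans h3.symm)
      · ext q'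
        simp only [orb, Finset.mem_filter, Finset.mem_univ, true_and]
        constructor
        · rintro ⟨x, hx, rfl⟩
          exact ⟨x * w, mul_mem hx hw, mul_smul _ _ _⟩
        · rintro ⟨x, hx, rfl⟩
          exact ⟨x * w⁻¹, mul_mem hx (inv_mem hw), by rw [← mul_smul, inv_mul_cancel_right]⟩
    · rintro ⟨⟨-, hqu⟩, hq⟩
      exact ⟨hq ▸ hself q, hqu⟩
  rw [← hfil, ← h1]
  exact horbit q₀ hq₀ne hq₀fix

/-- The transfer argument. -/
theorem hom_eq_one (h2 : ∀ H : Subgroup G, H.index ≠ 2) {A : Type*} [CommGroup A]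
    (hA : ∀ a : A, a * a = 1) (δ : ↥(normalizer (S.W : Set G)) →* A)
    (hδW : ∀ x : ↥(normalizer (S.W : Set G)), (x : G) ∈ S.W → δ x = 1) : δ = 1 :=
  S.hom_eq_one_aux h2 hA _ rfl δ hδW

end Data

end Cfsg.Agent.RuNorm
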