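/-
The structure of `N(W)` and `N(W')` for a group of Rudvalis type without subgroups of index two.

* `Data.act` : the action on `D = W'`.
* `Data.main_normalizer_W` : `N(W) / (W O(N(W)))` is `GL(3, 2)`.
* `Data.main_normalizer_D` : `N(D) = N(W) O(N(D))`.
-/
import Cfsg.Agent.Lib.RuNorm.Transfer
import Cfsg.Agent.Lib.RuNorm.GLThree
import Cfsg.Agent.Lib.RuNorm.OddPart
import Cfsg.Agent.Lib.ExtLayer.Basic

set_option autoImplicit false

namespace Cfsg.Agent.RuNorm

open Subgroup

theorem le_oddCore {M : Type*} [Group M] {O : Subgroup M} (hn : O.Normal)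
    (ho : Odd (Nat.card O)) : O ≤ Cfsg.oddCore M :=
  le_sSup ⟨hn, Nat.coprime_two_right.mpr ho⟩

/-- A normal 2-subgroup of odd index centralised by all elements of odd order has a complement
containing every element killed by the order of the complement. -/
theorem exists_odd_part {H : Type*} [Group H] [Finite H] (Wn : Subgroup H) [Wn.Normal] {a : ℕ}
    (hc : Nat.card Wn = 2 ^ a) (ho : Odd Wn.index)
    (hcent : ∀ x : H, Odd (orderOf x) → ∀ w ∈ Wn, x * w = w * x) :
    ∃ O : Subgroup H, Odd (Nat.card O) ∧ Wn ⊔ O = ⊤ ∧ ∀ x : H, x ^ Nat.card O = 1 → x ∈ O := by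
  have hcop : (2 ^ a).Coprime Wn.index := (Nat.coprime_two_left.mpr ho).pow_left a
  obtain ⟨O, hO⟩ := exists_right_complement'_of_coprime (N := Wn) (by rwa [hc])
  have hOc : Nat.card O = Wn.index := hO.symm.index_eq_card.symm
  refine ⟨O, hOc ▸ ho, hO.sup_eq_top, fun x hx => ?_⟩
  obtain ⟨⟨⟨w, hw⟩, ⟨o, hoO⟩⟩, rfl⟩ := hO.surjective x
  have ho2 : Odd (orderOf o) := by
    refine (hOc ▸ ho : Odd (Nat.card O)).of_dvd_nat ?_
    rw [← orderOf_mk (H := O) o hoO]
    exact orderOf_dvd_natCard _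
  have hcomm : Commute w o := (hcent o ho2 w hw).symm
  have hoc : o ^ Nat.card O = 1 := congrArg Subtype.val (pow_card_eq_one' (x := (⟨o, hoO⟩ : O)))
  have h1 : w ^ Nat.card O = 1 := by
    change (w * o) ^ Nat.card O = 1 at hx
    rwa [hcomm.mul_pow, hoc, mul_one] at hx
  have h2 : w ^ 2 ^ a = 1 := by
    rw [← hc]
    exact congrArg Subtype.val (pow_card_eq_one' (x := (⟨w, hw⟩ : Wn)))
  have h3 : w = 1 := by
    have := pow_gcd_eq_one.mpr ⟨h2, hOc ▸ h1⟩
    rwa [hcop.gcd_eq_one, pow_one] at this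
  show w * o ∈ O
  rw [h3, one_mul]
  exact hoO

theorem map_le_oddCore {H M : Type*} [Group H] [Group M] (ι : H →* M) (hι : Function.Injective ι)
    (O : Subgroup H) (ho : Odd (Nat.card O)) (hpow : ∀ x : H, x ^ Nat.card O = 1 → x ∈ O)
    (hr : ∀ g : M, ∀ o ∈ O, g * ι o * g⁻¹ ∈ ι.range) : O.map ι ≤ Cfsg.oddCore M := by
  refine le_oddCore ⟨?_⟩ (by rwa [card_map_of_injective hι])
  rintro _ ⟨o, ho', rfl⟩ g
  obtain ⟨x, hx⟩ := hr g o ho'
  refine ⟨x, hpow x (hι ?_), hx⟩
  have hoc : o ^ Nat.card O = 1 := congrArg Subtype.val (pow_card_eq_one' (x := (⟨o, ho'⟩ : O)))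
  rw [map_pow, hx, conj_pow, ← map_pow, hoc, map_one]
  group

variable {G : Type*} [Group G] [Finite G]

namespace Data

variable (S : Data G)

/-- The action on `D` of a subgroup normalising it. -/
def act {M : Subgroup G} (hM : M ≤ normalizer (S.D : Set G)) : M →* MulAut S.D :=
  S.D.normalizerMonoidHom.comp (inclusion hM)

theorem act_eq_one_iff {M : Subgroup G} (hM : M ≤ normalizer (S.D : Set G)) {x : M} :
    S.act hM x = 1 ↔ ∀ d ∈ S.D, (x : G) * d * (x : G)⁻¹ = d :=
  ⟨fun h d hd => congrArg Subtype.val (DFunLike.congr_fun h (⟨d, hd⟩ : S.D)),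
    fun h => MulEquiv.ext fun d => Subtype.ext (h d d.2)⟩

theorem act_eq_one_of_mem {M : Subgroup G} (hM : M ≤ normalizer (S.D : Set G)) {x : M}
    (hx : (x : G) ∈ S.W) : S.act hM x = 1 :=
  (S.act_eq_one_iff hM).mpr fun d hd => by
    rw [← S.D_comm x hx d hd, mul_inv_cancel_right]

theorem exists_equiv : Nonempty (MulAut S.D ≃* GL (Fin 3) (ZMod 2)) := by
  letI : CommGroup S.D :=
    { (inferInstance : Group S.D) with
      mul_comm := fun a b => Subtype.ext (S.D_comm b (S.D_le b.2) a a.2) }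
  exact exists_mulAut_equiv (fun e => Subtype.ext (by
    show ((e ^ 2 : S.D) : G) = 1
    rw [Subgroup.coe_pow, pow_two]
    exact S.D_sq e e.2)) S.card_D

theorem simple_mulAut : IsSimpleGroup (MulAut S.D) := by
  haveI := Cfsg.Agent.HSType.isSimpleGroup_gl3
  obtain ⟨e⟩ := S.exists_equiv
  exact e.isSimpleGroup

theorem card_mulAut : Nat.card (MulAut S.D) = 168 := by
  obtain ⟨e⟩ := S.exists_equiv
  rw [Nat.card_congr e.toEquiv, Cfsg.Agent.HSType.natCard_gl3]

theorem card_T : Nat.card (S.T : Subgroup G) = 2 ^ 14 := by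
  have hk : S.ρ.ker = S.W.subgroupOf (S.T : Subgroup G) := by
    ext t
    rw [MonoidHom.mem_ker, S.ρ_ker, mem_subgroupOf]
  rw [← (S.W.subgroupOf (S.T : Subgroup G)).card_mul_index,
    Nat.card_congr (subgroupOfEquivOfLe S.W_le).toEquiv, S.card_W, ← hk, index_ker,
    MonoidHom.range_eq_top.mpr S.ρ_surj, card_top, DihedralGroup.nat_card]
  norm_num

theorem eight_dvd {M : Subgroup G} (hM : M ≤ normalizer (S.D : Set G))
    (hTM : (S.T : Subgroup G) ≤ M) : 8 ∣ Nat.card (S.act hM).range := by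
  set ψ := (S.act hM).comp (inclusion hTM) with hψ
  have hk : ψ.ker = S.ρ.ker := by
    ext t
    rw [MonoidHom.mem_ker, MonoidHom.mem_ker, S.ρ_ker, hψ, MonoidHom.comp_apply]
    refine ⟨fun h => ?_, fun h => S.act_eq_one_of_mem hM h⟩
    refine S.centD t t.2 fun d hd => ?_
    exact mul_inv_eq_iff_eq_mul.mp ((S.act_eq_one_iff hM).mp h d hd)
  have h8 : Nat.card ψ.range = 8 := by
    rw [← index_ker, hk, index_ker, MonoidHom.range_eq_top.mpr S.ρ_surj, card_top,
      DihedralGroup.nat_card]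
  rw [← h8]
  exact card_dvd_of_le (by rintro _ ⟨t, rfl⟩; exact ⟨_, rfl⟩)

theorem odd_relIndex_ker {M : Subgroup G} (hM : M ≤ normalizer (S.D : Set G))
    (hTM : (S.T : Subgroup G) ≤ M) (hs : Function.Surjective (S.act hM)) :
    Odd ((S.W.subgroupOf M).relIndex (S.act hM).ker) := by
  haveI : Fact (Nat.Prime 2) := ⟨Nat.prime_two⟩
  set C := (S.act hM).ker with hC
  have hle : S.W.subgroupOf M ≤ C := fun x hx =>
    MonoidHom.mem_ker.mpr (S.act_eq_one_of_mem hM hx)
  have h1 := C.card_mul_index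
  rw [hC, index_ker, MonoidHom.range_eq_top.mpr hs, card_top, S.card_mulAut, ← hC] at h1
  have h2 := ((S.W.subgroupOf M).subgroupOf C).card_mul_index
  rw [Nat.card_congr (subgroupOfEquivOfLe hle).toEquiv,
    Nat.card_congr (subgroupOfEquivOfLe (S.W_le.trans hTM)).toEquiv, S.card_W] at h2
  change 2 ^ 11 * (S.W.subgroupOf M).relIndex C = Nat.card C at h2
  have h3 := ((S.T : Subgroup G).subgroupOf M).card_mul_index
  rw [Nat.card_congr (subgroupOfEquivOfLe hTM).toEquiv, S.card_T] at h3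
  change 2 ^ 14 * (S.T : Subgroup G).relIndex M = Nat.card M at h3
  have h4 : ¬ 2 ∣ (S.T : Subgroup G).relIndex M := fun h =>
    S.T.not_dvd_index (h.trans (Dvd.intro _ (relIndex_mul_index hTM)))
  refine Nat.not_even_iff_odd.mp fun he => h4 ?_
  obtain ⟨k, hk⟩ := he
  rw [hk] at h2
  norm_num at h1 h2 h3
  omega

theorem act_normalizer_surjective (h2 : ∀ H : Subgroup G, H.index ≠ 2) :
    Function.Surjective (S.act S.normalizer_W_le) := by
  haveI := S.simple_mulAut
  rw [← MonoidHom.range_eq_top]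
  refine eq_top_of_no_index_two S.card_mulAut _
    (S.eight_dvd S.normalizer_W_le S.T_le_normalizer) fun H hH => ?_
  set L := H.comap (S.act S.normalizer_W_le).rangeRestrict with hL
  have hLi : L.index = 2 := by
    rw [hL, index_comap_of_surjective H (S.act S.normalizer_W_le).rangeRestrict_surjective, hH]
  classical
  let δ : ↥(normalizer (S.W : Set G)) →* ℤˣ :=
    { toFun := fun x => if x ∈ L then 1 else -1
      map_one' := if_pos L.one_mem
      map_mul' := fun x y => by
        have := mul_mem_iff_of_index_two hLi (a := x) (b := y)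
        by_cases hx : x ∈ L <;> by_cases hy : y ∈ L <;> simp_all }
  have hδ := S.hom_eq_one h2 Int.units_mul_self δ fun x hx => by
    refine if_pos ?_
    have : (S.act S.normalizer_W_le).rangeRestrict x = 1 :=
      Subtype.ext (S.act_eq_one_of_mem S.normalizer_W_le hx)
    rw [hL, mem_comap, this]
    exact one_mem H
  have hall : L = ⊤ := by
    rw [eq_top_iff]
    intro x _
    by_contra hx
    have h : (if x ∈ L then (1 : ℤˣ) else -1) = 1 := DFunLike.congr_fun hδ x
    rw [if_neg hx] at h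
    exact absurd h (by decide)
  rw [hall, index_top] at hLi
  exact absurd hLi (by norm_num)

theorem oddCore_le_ker (h2 : ∀ H : Subgroup G, H.index ≠ 2) :
    Cfsg.oddCore ↥(normalizer (S.W : Set G)) ≤ (S.act S.normalizer_W_le).ker := by
  haveI := S.simple_mulAut
  have hn : (Cfsg.oddCore ↥(normalizer (S.W : Set G))).Normal := Cores.pPrimeCore_normal 2 _
  rcases (hn.map (S.act S.normalizer_W_le) (S.act_normalizer_surjective h2)).eq_bot_or_eq_top
    with h | h
  · rwa [Subgroup.map_eq_bot_iff] at h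
  · exfalso
    have hd := (Cfsg.oddCore ↥(normalizer (S.W : Set G))).card_map_dvd (S.act S.normalizer_W_le)
    rw [h, card_top, S.card_mulAut] at hd
    exact Nat.not_even_iff_odd.mpr ExtLayer.oddCore_odd
      (even_iff_two_dvd.mpr (dvd_trans (by norm_num) hd))

/-- Elements of `N(W)` centralising `D` act trivially on `W / D`. -/
theorem comm_of_centralize (h2 : ∀ H : Subgroup G, H.index ≠ 2) {x : G}
    (hxN : x ∈ normalizer (S.W : Set G)) (hxD : ∀ d ∈ S.D, x * d * x⁻¹ = d) {w : G}
    (hw : w ∈ S.W) : x * w * x⁻¹ * w⁻¹ ∈ S.D := by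
  classical
  haveI : Fact (Nat.Prime 2) := ⟨Nat.prime_two⟩
  set N := normalizer (S.W : Set G) with hN
  set φ := S.act S.normalizer_W_le with hφ
  have hsurj : Function.Surjective φ := S.act_normalizer_surjective h2
  set D' := S.D.subgroupOf S.W with hD'
  haveI hDn : D'.Normal := ⟨fun d hd g => by
    rw [hD', mem_subgroupOf] at hd ⊢
    rw [Subgroup.coe_mul, Subgroup.coe_mul, Subgroup.coe_inv, ← S.D_comm g g.2 d hd,
      mul_inv_cancel_right]
    exact hd⟩
  letI : CommGroup (↥S.W ⧸ D') :=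
    { (inferInstance : Group (↥S.W ⧸ D')) with
      mul_comm := fun p q => by
        induction p using QuotientGroup.induction_on with
        | H a =>
          induction q using QuotientGroup.induction_on with
          | H b =>
            rw [← QuotientGroup.mk_mul, ← QuotientGroup.mk_mul]
            refine QuotientGroup.eq.mpr ?_
            rw [hD', mem_subgroupOf]
            simpa [mul_assoc] using S.comm_mem_D b.2 a.2 }
  have hV2 : ∀ v : ↥S.W ⧸ D', v ^ 2 = 1 := by
    intro v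
    induction v using QuotientGroup.induction_on with
    | H a =>
      rw [← QuotientGroup.mk_pow, QuotientGroup.eq_one_iff, hD', mem_subgroupOf, Subgroup.coe_pow,
        pow_two]
      exact S.sq_W a a.2
  have hVc : Nat.card (↥S.W ⧸ D') = 2 ^ 8 := by
    have h1 := D'.card_mul_index
    rw [hD', Nat.card_congr (subgroupOfEquivOfLe S.D_le).toEquiv, S.card_D, S.card_W] at h1
    rw [← index_eq_card, hD']
    norm_num at h1 ⊢
    omega
  -- the action on `W / D`
  have hDle : ∀ y : N, D' ≤ D'.comap (S.W.normalizerMonoidHom y).toMonoidHom := fun y d hd => by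
    rw [mem_comap, hD', mem_subgroupOf]
    exact S.conj_mem_D hd y.2
  let f : N → (↥S.W ⧸ D' →* ↥S.W ⧸ D') := fun y =>
    QuotientGroup.map D' D' (S.W.normalizerMonoidHom y).toMonoidHom (hDle y)
  have hf1 : f 1 = MonoidHom.id _ := by
    refine QuotientGroup.monoidHom_ext _ (MonoidHom.ext fun a => ?_)
    exact congrArg QuotientGroup.mk (DFunLike.congr_fun (map_one S.W.normalizerMonoidHom) a)
  have hfm : ∀ y z, f (y * z) = (f y).comp (f z) := fun y z => by
    refine QuotientGroup.monoidHom_ext _ (MonoidHom.ext fun a => ?_)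
    exact congrArg QuotientGroup.mk (DFunLike.congr_fun (map_mul S.W.normalizerMonoidHom y z) a)
  let ω : N →* MulAut (↥S.W ⧸ D') :=
    { toFun := fun y => MonoidHom.toMulEquiv (f y) (f y⁻¹)
        (by rw [← hfm, inv_mul_cancel, hf1]) (by rw [← hfm, mul_inv_cancel, hf1])
      map_one' := MulEquiv.ext fun v => DFunLike.congr_fun hf1 v
      map_mul' := fun y z => MulEquiv.ext fun v => DFunLike.congr_fun (hfm y z) v }
  have hω : ∀ (y : N) (a : ↥S.W), ω y (QuotientGroup.mk a) =
      QuotientGroup.mk ⟨(y : G) * a * (y : G)⁻¹, S.conj_mem_W a.2 y.2⟩ := fun y a => rfl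
  have hker : ∀ y : N, ω y = 1 ↔ ∀ a ∈ S.W, (y : G) * a * (y : G)⁻¹ * a⁻¹ ∈ S.D := by
    intro y
    constructor
    · intro h a ha
      have h1 := DFunLike.congr_fun h (QuotientGroup.mk (⟨a, ha⟩ : ↥S.W) : ↥S.W ⧸ D')
      rw [hω] at h1
      have h3 := QuotientGroup.eq.mp h1.symm
      rw [hD', mem_subgroupOf] at h3
      have h4 : a⁻¹ * ((y : G) * a * (y : G)⁻¹) ∈ S.D := by simpa using h3
      have e : (y : G) * a * (y : G)⁻¹ * a⁻¹ = a * (a⁻¹ * ((y : G) * a * (y : G)⁻¹)) * a⁻¹ := by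
        group
      rw [e, ← S.D_comm a ha _ h4, mul_inv_cancel_right]
      exact h4
    · intro h
      refine MulEquiv.ext fun v => ?_
      induction v using QuotientGroup.induction_on with
      | H a =>
        rw [hω]
        refine (QuotientGroup.eq.mpr ?_).symm
        rw [hD', mem_subgroupOf]
        have h3 := h a a.2
        have e : (a : G)⁻¹ * ((y : G) * a * (y : G)⁻¹) =
            (a : G)⁻¹ * ((y : G) * a * (y : G)⁻¹ * (a : G)⁻¹) * a := by group
        show (a : G)⁻¹ * ((y : G) * a * (y : G)⁻¹) ∈ S.D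
        rw [e, mul_assoc, S.D_comm a a.2 _ h3, inv_mul_cancel_left]
        exact h3
  have hωK : ω.ker ≤ φ.ker := by
    intro y hy
    rw [MonoidHom.mem_ker, hφ, S.act_eq_one_iff]
    have h := (hker y).mp (MonoidHom.mem_ker.mp hy)
    intro d hd
    rw [S.D_eq_sqs, sqs] at hd
    induction hd using closure_induction with
    | mem d hd =>
      obtain ⟨a, ha, rfl⟩ := hd
      obtain ⟨e, he, hea⟩ : ∃ e ∈ S.D, (y : G) * a * (y : G)⁻¹ = e * a :=
        ⟨_, h a ha, by group⟩
      calc (y : G) * (a * a) * (y : G)⁻¹ = ((y : G) * a * (y : G)⁻¹) * ((y : G) * a * (y : G)⁻¹) := by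
            group
        _ = (e * a) * (e * a) := by rw [hea]
        _ = (e * e) * (a * a) := by
          rw [mul_assoc, ← mul_assoc a e a, ← S.D_comm a ha e he, mul_assoc e a a, ← mul_assoc]
        _ = a * a := by rw [S.D_sq e he, one_mul]
    | one => group
    | mul p q _ _ hp hq =>
      calc (y : G) * (p * q) * (y : G)⁻¹ = ((y : G) * p * (y : G)⁻¹) * ((y : G) * q * (y : G)⁻¹) := by
            group
        _ = p * q := by rw [hp, hq]
    | inv p _ hp =>
      calc (y : G) * p⁻¹ * (y : G)⁻¹ = ((y : G) * p * (y : G)⁻¹)⁻¹ := by group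
        _ = p⁻¹ := by rw [hp]
  have hWω : S.W.subgroupOf N ≤ ω.ker := fun y hy => MonoidHom.mem_ker.mpr ((hker y).mpr
    fun a ha => by
      simpa [mul_assoc] using S.comm_mem_D (inv_mem (show (y : G) ∈ S.W from hy)) (inv_mem ha))
  -- the odd part
  set A : Subgroup ω.range := φ.ker.map ω.rangeRestrict with hA
  haveI hAn : A.Normal := (MonoidHom.normal_ker φ).map _ ω.rangeRestrict_surjective
  have hAodd : Odd (Nat.card A) := by
    refine (S.odd_relIndex_ker S.normalizer_W_le S.T_le_normalizer hsurj).of_dvd_nat ?_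
    rw [hA, ← relIndex_ker φ.ker ω.rangeRestrict]
    exact relIndex_dvd_of_le_left φ.ker (hWω.trans_eq (MonoidHom.ker_rangeRestrict ω).symm)
  let q : N →* ω.range ⧸ A := (QuotientGroup.mk' A).comp ω.rangeRestrict
  have hq : Function.Surjective q :=
    (QuotientGroup.mk'_surjective A).comp ω.rangeRestrict_surjective
  have hqk : q.ker = φ.ker := by
    rw [← MonoidHom.comap_ker, QuotientGroup.ker_mk', hA, comap_map_eq, MonoidHom.ker_rangeRestrict,
      sup_eq_left]
    exact hωK
  let eq : ω.range ⧸ A ≃* MulAut S.D :=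
    (QuotientGroup.quotientKerEquivOfSurjective q hq).symm.trans
      ((QuotientGroup.quotientMulEquivOfEq hqk).trans
        (QuotientGroup.quotientKerEquivOfSurjective φ hsurj))
  haveI := S.simple_mulAut
  haveI : IsSimpleGroup (ω.range ⧸ A) := eq.isSimpleGroup
  obtain ⟨v, hvW, hvD, -, hvu⟩ := S.fixed
  have hbot : A = ⊥ := by
    refine odd_part_eq_bot hV2 hVc ω.range A hAodd
      (by rw [Nat.card_congr eq.toEquiv, S.card_mulAut])
      (((S.T : Subgroup G).subgroupOf N).map ω.rangeRestrict)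
      ((S.T.2.comap_subtype).map _) (QuotientGroup.mk (⟨v, hvW⟩ : ↥S.W)) fun u hu => ?_
    induction u using QuotientGroup.induction_on with
    | H a =>
      have hfix : ∀ t ∈ (S.T : Subgroup G), t * a * t⁻¹ * (a : G)⁻¹ ∈ S.D := by
        intro t ht
        have hm : ω.rangeRestrict ⟨t, S.T_le_normalizer ht⟩ ∈
            ((S.T : Subgroup G).subgroupOf N).map ω.rangeRestrict :=
          mem_map_of_mem _ (mem_subgroupOf.mpr ht)
        have h1 := hu _ hm
        rw [MonoidHom.coe_rangeRestrict, hω] at h1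
        have h3 := QuotientGroup.eq.mp h1.symm
        rw [hD', mem_subgroupOf] at h3
        have h4 : (a : G)⁻¹ * (t * a * t⁻¹) ∈ S.D := by simpa using h3
        have e : t * a * t⁻¹ * (a : G)⁻¹ = a * ((a : G)⁻¹ * (t * a * t⁻¹)) * (a : G)⁻¹ := by group
        rw [e, ← S.D_comm a a.2 _ h4, mul_inv_cancel_right]
        exact h4
      rcases hvu a a.2 hfix with h | h
      · exact Or.inl ((QuotientGroup.eq_one_iff _).mpr h)
      · refine Or.inr (QuotientGroup.eq.mpr ?_)
        show (a : G)⁻¹ * v ∈ S.D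
        rw [show (a : G)⁻¹ * v = ((a : G)⁻¹ * (a : G)⁻¹) * ((a : G) * v) by group]
        exact mul_mem (S.sq_W _ (inv_mem a.2)) h
  have hK : φ.ker ≤ ω.ker := by
    rw [hA, Subgroup.map_eq_bot_iff, MonoidHom.ker_rangeRestrict] at hbot
    exact hbot
  exact (hker ⟨x, hxN⟩).mp
    (MonoidHom.mem_ker.mp (hK (MonoidHom.mem_ker.mpr ((S.act_eq_one_iff _).mpr hxD)))) w hw

theorem centralize_of_odd (h2 : ∀ H : Subgroup G, H.index ≠ 2) {x : G}
    (hxN : x ∈ normalizer (S.W : Set G)) (hxD : ∀ d ∈ S.D, x * d * x⁻¹ = d)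
    (hodd : Odd (orderOf x)) {w : G} (hw : w ∈ S.W) : x * w = w * x := by
  set d := x * w * x⁻¹ * w⁻¹ with hd
  have hdD : d ∈ S.D := S.comm_of_centralize h2 hxN hxD hw
  have key : ∀ n : ℕ, x ^ n * w * (x ^ n)⁻¹ = d ^ n * w := by
    intro n
    induction n with
    | zero => simp
    | succ n ih =>
      calc x ^ (n + 1) * w * (x ^ (n + 1))⁻¹ = x * (x ^ n * w * (x ^ n)⁻¹) * x⁻¹ := by
            rw [pow_succ']; group
        _ = x * (d ^ n * w) * x⁻¹ := by rw [ih]
        _ = (x * d ^ n * x⁻¹) * (x * w * x⁻¹) := by group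
        _ = d ^ n * (d * w) := by
            rw [hxD _ (pow_mem hdD n), show x * w * x⁻¹ = d * w by rw [hd]; group]
        _ = d ^ (n + 1) * w := by rw [pow_succ]; exact (mul_assoc _ _ _).symm
  obtain ⟨k, hk⟩ := hodd
  have h1 := key (orderOf x)
  rw [pow_orderOf_eq_one, one_mul, inv_one, mul_one, hk, pow_add, pow_mul, pow_two,
    S.D_sq d hdD, one_pow, one_mul, pow_one] at h1
  have h3 : x * w * x⁻¹ * w⁻¹ = 1 := hd ▸ (mul_eq_right.mp h1.symm)
  exact commutatorElement_eq_one_iff_mul_comm.mp (by rw [commutatorElement_def]; exact h3)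

theorem ker_eq (h2 : ∀ H : Subgroup G, H.index ≠ 2) :
    (S.act S.normalizer_W_le).ker =
      S.W.subgroupOf (normalizer (S.W : Set G)) ⊔ Cfsg.oddCore ↥(normalizer (S.W : Set G)) := by
  set N := normalizer (S.W : Set G) with hN
  set K := (S.act S.normalizer_W_le).ker with hK
  have hle : S.W.subgroupOf N ≤ K := fun x hx =>
    MonoidHom.mem_ker.mpr (S.act_eq_one_of_mem _ hx)
  refine le_antisymm ?_ (sup_le hle (S.oddCore_le_ker h2))
  set Wn := (S.W.subgroupOf N).subgroupOf K with hWn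
  haveI : Wn.Normal := ⟨fun w hw g => S.conj_mem_W (show ((w : N) : G) ∈ S.W from hw) (g : N).2⟩
  obtain ⟨O, hO, htop, hpow⟩ := exists_odd_part Wn (a := 11)
    (by rw [hWn, Nat.card_congr (subgroupOfEquivOfLe hle).toEquiv,
      Nat.card_congr (subgroupOfEquivOfLe le_normalizer).toEquiv, S.card_W])
    (S.odd_relIndex_ker S.normalizer_W_le S.T_le_normalizer (S.act_normalizer_surjective h2))
    (fun x hx w hw => by
      refine Subtype.ext (Subtype.ext ?_)
      refine S.centralize_of_odd h2 (x : N).2 ((S.act_eq_one_iff _).mp (MonoidHom.mem_ker.mp x.2))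
        ?_ hw
      rwa [Subgroup.orderOf_coe, Subgroup.orderOf_coe])
  have hOle : O.map K.subtype ≤ Cfsg.oddCore N :=
    map_le_oddCore K.subtype K.subtype_injective O hO hpow fun g o _ => by
      rw [K.range_subtype]
      exact (inferInstance : K.Normal).conj_mem _ o.2 g
  calc K = (⊤ : Subgroup K).map K.subtype := by rw [← MonoidHom.range_eq_map, K.range_subtype]
    _ = Wn.map K.subtype ⊔ O.map K.subtype := by rw [← htop, Subgroup.map_sup]
    _ ≤ _ := by
      refine sup_le_sup ?_ hOle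
      rw [hWn, subgroupOf_map_subtype]
      exact inf_le_left

theorem main_normalizer_W (h2 : ∀ H : Subgroup G, H.index ≠ 2) :
    ∃ (_ : (S.W.subgroupOf (normalizer (S.W : Set G)) ⊔
        Cfsg.oddCore ↥(normalizer (S.W : Set G))).Normal),
      Nonempty (↥(normalizer (S.W : Set G)) ⧸ (S.W.subgroupOf (normalizer (S.W : Set G)) ⊔
        Cfsg.oddCore ↥(normalizer (S.W : Set G))) ≃* GL (Fin 3) (ZMod 2)) := by
  haveI hn : (S.W.subgroupOf (normalizer (S.W : Set G)) ⊔
      Cfsg.oddCore ↥(normalizer (S.W : Set G))).Normal := S.ker_eq h2 ▸ MonoidHom.normal_ker _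
  obtain ⟨e⟩ := S.exists_equiv
  exact ⟨hn, ⟨(QuotientGroup.quotientMulEquivOfEq (S.ker_eq h2).symm).trans
    ((QuotientGroup.quotientKerEquivOfSurjective _ (S.act_normalizer_surjective h2)).trans e)⟩⟩

theorem main_normalizer_D (h2 : ∀ H : Subgroup G, H.index ≠ 2) :
    (normalizer (S.W : Set G)).subgroupOf (normalizer (S.D : Set G)) ⊔
      Cfsg.oddCore ↥(normalizer (S.D : Set G)) = ⊤ := by
  haveI : Fact (Nat.Prime 2) := ⟨Nat.prime_two⟩
  set M := normalizer (S.D : Set G) with hM
  set α := S.act (le_refl M) with hα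
  have hTM : (S.T : Subgroup G) ≤ M := S.T_le_normalizer.trans S.normalizer_W_le
  have hlift : ∀ a, ∃ n : M, (n : G) ∈ normalizer (S.W : Set G) ∧ α n = a := by
    intro a
    obtain ⟨n, hn⟩ := S.act_normalizer_surjective h2 a
    exact ⟨⟨n, S.normalizer_W_le n.2⟩, n.2, hn ▸ rfl⟩
  have hαs : Function.Surjective α := fun a => (hlift a).imp fun n hn => hn.2
  set C := α.ker with hC
  have hCD : ∀ c : C, ∀ d ∈ S.D, ((c : M) : G) * d * ((c : M) : G)⁻¹ = d := fun c =>
    (S.act_eq_one_iff _).mp (MonoidHom.mem_ker.mp c.2)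
  have hWC : S.W.subgroupOf M ≤ C := fun x hx => MonoidHom.mem_ker.mpr (S.act_eq_one_of_mem _ hx)
  have hWM : S.W ≤ M := S.W_le.trans hTM
  set D' : Subgroup C := (S.D.subgroupOf M).subgroupOf C with hD'
  set W' : Subgroup C := (S.W.subgroupOf M).subgroupOf C with hW'
  have hmD : ∀ x : C, x ∈ D' ↔ ((x : M) : G) ∈ S.D := fun x => Iff.rfl
  have hmW : ∀ x : C, x ∈ W' ↔ ((x : M) : G) ∈ S.W := fun x => Iff.rfl
  have hDW : D' ≤ W' := fun x hx => (hmW x).mpr (S.D_le ((hmD x).mp hx))
  have hWc : Nat.card W' = 2 ^ 11 := by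
    rw [hW', Nat.card_congr (subgroupOfEquivOfLe hWC).toEquiv,
      Nat.card_congr (subgroupOfEquivOfLe hWM).toEquiv, S.card_W]
  have hDc : Nat.card D' = 2 ^ 3 := by
    rw [hD', Nat.card_congr (subgroupOfEquivOfLe
      (show S.D.subgroupOf M ≤ C from fun x hx => hWC (mem_subgroupOf.mpr (S.D_le hx)))).toEquiv,
      Nat.card_congr (subgroupOfEquivOfLe (S.D_le.trans hWM)).toEquiv, S.card_D]
    norm_num
  haveI hDn : D'.Normal := ⟨fun d hd c => by
    rw [hmD] at hd ⊢
    show ((c : M) : G) * ((d : M) : G) * ((c : M) : G)⁻¹ ∈ S.D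
    rw [hCD c _ hd]
    exact hd⟩
  set π := QuotientGroup.mk' D' with hπ
  have hπs : Function.Surjective π := QuotientGroup.mk'_surjective D'
  have hπk : π.ker ≤ W' := by rw [hπ, QuotientGroup.ker_mk']; exact hDW
  have hWodd : Odd W'.index := S.odd_relIndex_ker (le_refl M) hTM hαs
  have hP2 : IsPGroup 2 (W'.map π) := (IsPGroup.of_card hWc).map π
  have hPi : ¬ 2 ∣ (W'.map π).index := by
    rw [index_map_eq W' hπs hπk]
    exact fun h => Nat.not_even_iff_odd.mpr hWodd (even_iff_two_dvd.mpr h)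
  let P : Sylow 2 (C ⧸ D') := hP2.toSylow hPi
  have hPc : (P : Subgroup (C ⧸ D')) = W'.map π := rfl
  have hP : normalizer ((P : Subgroup (C ⧸ D')) : Set (C ⧸ D')) ≤
      centralizer ((P : Subgroup (C ⧸ D')) : Set (C ⧸ D')) := by
    intro q hq
    obtain ⟨x, rfl⟩ := hπs q
    rw [hPc] at hq ⊢
    have hconj : ∀ w ∈ S.W, ((x : M) : G) * w * ((x : M) : G)⁻¹ ∈ S.W := by
      intro w hw
      let w' : C := ⟨⟨w, hWM hw⟩, hWC (mem_subgroupOf.mpr hw)⟩
      have h1 : π w' ∈ W'.map π := mem_map_of_mem π ((hmW w').mpr hw)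
      have h3 := (mem_normalizer_iff.mp hq _).mp h1
      rw [← map_inv, ← map_mul, ← map_mul, ← mem_comap, comap_map_eq_self hπk, hmW] at h3
      exact h3
    have hxN : ((x : M) : G) ∈ normalizer (S.W : Set G) := by
      rw [mem_normalizer_iff_map_conj_eq]
      refine eq_of_le_of_card_ge ?_ (card_map_of_injective (MulAut.conj _).injective).ge
      rintro _ ⟨w, hw, rfl⟩
      exact hconj w hw
    rw [mem_centralizer_iff]
    rintro _ ⟨w, hw, rfl⟩
    rw [← map_mul, ← map_mul]
    refine QuotientGroup.eq.mpr ((hmD _).mpr ?_)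
    show (((w : M) : G) * ((x : M) : G))⁻¹ * (((x : M) : G) * ((w : M) : G)) ∈ S.D
    have h := S.comm_of_centralize h2 (inv_mem hxN) (fun d hd => by
      have h1 := hCD x⁻¹ d hd
      simpa using h1) (inv_mem ((hmW w).mp hw))
    simpa [mul_assoc] using h
  set R := (MonoidHom.transferSylow P hP).ker with hR
  have hcompl := MonoidHom.ker_transferSylow_isComplement' P hP
  have hRodd : Odd (Nat.card R) := Nat.not_even_iff_odd.mp fun h =>
    MonoidHom.not_dvd_card_ker_transferSylow P hP h.two_dvd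
  set τ := (MonoidHom.transferSylow P hP).comp π with hτ
  set H' := τ.ker with hH'
  have hDH : D' ≤ H' := fun d hd => by
    rw [hH', MonoidHom.mem_ker, hτ, MonoidHom.comp_apply, hπ, QuotientGroup.mk'_apply,
      (QuotientGroup.eq_one_iff d).mpr hd, map_one]
  haveI : (D'.subgroupOf H').Normal := hDn.subgroupOf H'
  obtain ⟨O, hO, htop, hpow⟩ := exists_odd_part (D'.subgroupOf H') (a := 3)
    (by rw [Nat.card_congr (subgroupOfEquivOfLe hDH).toEquiv, hDc])
    (by
      show Odd (D'.relIndex H')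
      have e : D' = π.ker := (QuotientGroup.ker_mk' D').symm
      rw [e, relIndex_ker, hH', hτ, ← MonoidHom.comap_ker, map_comap_eq_self_of_surjective hπs]
      exact hRodd)
    (fun x _ d hd => by
      refine Subtype.ext (Subtype.ext (Subtype.ext ?_))
      exact mul_inv_eq_iff_eq_mul.mp (hCD x _ hd))
  let ι : H' →* M := C.subtype.comp H'.subtype
  have hι : Function.Injective ι := C.subtype_injective.comp H'.subtype_injective
  have hOle : O.map ι ≤ Cfsg.oddCore M := by
    refine map_le_oddCore ι hι O hO hpow fun g o ho => ?_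
    have hyC : g * ι o * g⁻¹ ∈ C := (inferInstance : C.Normal).conj_mem _ (o : C).2 g
    refine ⟨⟨⟨_, hyC⟩, ?_⟩, rfl⟩
    refine MonoidHom.mem_ker.mpr (orderOf_eq_one_iff.mp ?_)
    obtain ⟨n, hn⟩ := IsPGroup.iff_card.mp P.isPGroup'
    refine Nat.eq_one_of_dvd_coprimes ((Nat.coprime_two_left.mpr hO).pow_left n) ?_ ?_
    · rw [← hn]; exact orderOf_dvd_natCard _
    · refine (orderOf_map_dvd τ _).trans ?_
      rw [orderOf_dvd_iff_pow_eq_one]
      refine Subtype.ext ?_
      have hoc : o ^ Nat.card O = 1 :=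
        congrArg Subtype.val (pow_card_eq_one' (x := (⟨o, ho⟩ : O)))
      rw [Subgroup.coe_pow, Subgroup.coe_one]
      show (g * ι o * g⁻¹) ^ Nat.card O = 1
      rw [conj_pow, ← map_pow, hoc, map_one]
      group
  rw [eq_top_iff]
  intro m _
  obtain ⟨n, hnN, hn⟩ := hlift (α m)
  have hc : n⁻¹ * m ∈ C := MonoidHom.mem_ker.mpr (by rw [map_mul, map_inv, hn, inv_mul_cancel])
  have hbig : ∀ c : C, (c : M) ∈
      (normalizer (S.W : Set G)).subgroupOf M ⊔ Cfsg.oddCore M := by
    intro c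
    obtain ⟨r, hr, p, hp, he⟩ := mem_sup_of_normal_left.mp
      (show π c ∈ R ⊔ (P : Subgroup (C ⧸ D')) by rw [hR, hcompl.sup_eq_top]; exact mem_top _)
    rw [hPc] at hp
    obtain ⟨w, hw, rfl⟩ := hp
    have hcw : c * w⁻¹ ∈ H' := by
      rw [hH', MonoidHom.mem_ker, hτ, MonoidHom.comp_apply, map_mul π, map_inv π, ← he,
        mul_inv_cancel_right]
      exact hr
    have hsplit : (c : M) * (w : M)⁻¹ ∈
        (normalizer (S.W : Set G)).subgroupOf M ⊔ Cfsg.oddCore M := by
      obtain ⟨d, hd, o, ho, hdo⟩ := mem_sup_of_normal_left.mp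
        (show (⟨c * w⁻¹, hcw⟩ : H') ∈ D'.subgroupOf H' ⊔ O by rw [htop]; exact mem_top _)
      have e : (c : M) * (w : M)⁻¹ = ι d * ι o := by
        rw [← map_mul, hdo]; rfl
      rw [e]
      exact mul_mem (mem_sup_left (mem_subgroupOf.mpr (le_normalizer (S.D_le ((hmD _).mp hd)))))
        (mem_sup_right (hOle (mem_map_of_mem ι ho)))
    have hwN : (w : M) ∈ (normalizer (S.W : Set G)).subgroupOf M ⊔ Cfsg.oddCore M :=
      mem_sup_left (mem_subgroupOf.mpr (le_normalizer ((hmW w).mp hw)))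
    simpa using mul_mem hsplit hwN
  simpa using mul_mem (mem_sup_left (T := Cfsg.oddCore M)
    (mem_subgroupOf.mpr hnN : n ∈ (normalizer (S.W : Set G)).subgroupOf M)) (hbig ⟨_, hc⟩)

end Data

end Cfsg.Agent.RuNorm
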